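import Mathlib
import Cfsg.Agent.H363.PslTorus

/-!
# Centralizers of elements of the torus of order `q ^ (n - 1) - 1` of `SL_n(q)`: linear algebra
-/

set_option autoImplicit false
set_option linter.style.haveILetI false

namespace Cfsg.Agent.H277.CS

open Matrix Module Cfsg.Agent.H363.PslSpec Cfsg.Agent.H363.Frat

universe u v

variable {F : Type u} {V : Type v} [Field F] [AddCommGroup V] [Module F V]

/-! ### Gluing -/

section glue

variable {R C : Submodule F V} (hc : IsCompl R C)

/-- `B` on `R`, the scalar `c` on `C`. -/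
noncomputable def glue (B : Module.End F R) (c : F) : Module.End F V :=
  (Submodule.prodEquivOfIsCompl R C hc).conj (B.prodMap (c • (1 : Module.End F C)))

theorem glue_left (B : Module.End F R) (c : F) (w : R) : glue hc B c w = B w := by
  have h : (Submodule.prodEquivOfIsCompl R C hc) (w, 0) = (w : V) := by simp
  rw [glue, LinearEquiv.conj_apply_apply]
  nth_rw 1 [← h]
  rw [LinearEquiv.symm_apply_apply, LinearMap.prodMap_apply]
  simp

theorem glue_right (B : Module.End F R) (c : F) (u : C) : glue hc B c u = c • (u : V) := by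
  have h : (Submodule.prodEquivOfIsCompl R C hc) (0, u) = (u : V) := by simp
  rw [glue, LinearEquiv.conj_apply_apply]
  nth_rw 1 [← h]
  rw [LinearEquiv.symm_apply_apply, LinearMap.prodMap_apply]
  simp

include hc in
theorem ext_of {a b : Module.End F V} (h1 : ∀ w : R, a w = b w) (h2 : ∀ u : C, a u = b u) : a = b := by
  apply LinearMap.ext
  intro v
  have hv : v ∈ R ⊔ C := by rw [hc.sup_eq_top]; exact Submodule.mem_top
  obtain ⟨w, hw, u, hu, rfl⟩ := Submodule.mem_sup.mp hv
  rw [map_add, map_add]
  have e1 := h1 ⟨w, hw⟩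
  have e2 := h2 ⟨u, hu⟩
  simp only at e1 e2
  rw [e1, e2]

variable [FiniteDimensional F V]

theorem det_glue (h1 : finrank F C = 1) (B : Module.End F R) (c : F) :
    LinearMap.det (glue hc B c) = LinearMap.det B * c := by
  rw [glue, LinearEquiv.conj_apply, LinearMap.comp_assoc]
  have := LinearMap.det_conj (B.prodMap (c • (1 : Module.End F C))) (Submodule.prodEquivOfIsCompl R C hc)
  rw [this, LinearMap.det_prodMap, LinearMap.det_smul, h1, pow_one, map_one, mul_one]

end glue

/-! ### The count -/

section count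

variable [Finite F] [FiniteDimensional F V] {R C : Submodule F V} (hc : IsCompl R C)

/-- the units of `End_L(R)` -/
theorem card_units_end {L : Type*} [Field L] [Finite L] {W : Type*} [AddCommGroup W] [Module L W]
    [FiniteDimensional L W] : Nat.card (Module.End L W)ˣ =
      ∏ i : Fin (finrank L W), (Nat.card L ^ finrank L W - Nat.card L ^ (i : ℕ)) := by
  have := Fintype.ofFinite L
  have e : Module.End L W ≃ₐ[L] Matrix (Fin (finrank L W)) (Fin (finrank L W)) L :=
    LinearMap.toMatrixAlgEquiv (Module.finBasis L W)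
  rw [Nat.card_congr (Units.mapEquiv e.toMulEquiv).toEquiv, Nat.card_eq_fintype_card (α := L)]
  exact Matrix.card_GL_field _

include hc in
/-- **The centralizer of `g = f(a) ⊕ λ`, `a ≠ λ`.** -/
theorem card_comm (h1 : finrank F C = 1) {K : Type v} [Field K] [Finite K] [Algebra F K]
    (f : K →ₐ[F] Module.End F R) {g : Module.End F V} {a : K} {l : F} (ha : ∀ w : R, g w = f a w)
    (hl : ∀ u : C, g u = l • (u : V)) (hal : a ≠ algebraMap F K l) :
    ∃ k m : ℕ, k * m = finrank F R ∧ 0 < k ∧ a ^ (Nat.card F ^ k) = a ∧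
      Nat.card {b : Module.End F V // LinearMap.det b = 1 ∧ Commute b g} =
        ∏ i : Fin m, ((Nat.card F ^ k) ^ m - (Nat.card F ^ k) ^ (i : ℕ)) := by
  have : Finite V := Module.finite_of_finite F
  have hfK : FiniteDimensional F K := Module.Finite.of_finite
  set L := IntermediateField.adjoin F {a} with hL
  have haL : a ∈ L := IntermediateField.mem_adjoin_simple_self F a
  letI : Module L R := Module.compHom R ((f : K →+* Module.End F R).comp (algebraMap L K))
  have hsm : ∀ (c : L) (w : R), c • w = f (c : K) w := fun _ _ => rfl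
  haveI : IsScalarTower F L R := ⟨fun c k v => by
    rw [hsm, hsm]
    have : ((c • k : L) : K) = c • (k : K) := rfl
    rw [this, map_smul, LinearMap.smul_apply]⟩
  have : FiniteDimensional F L := inferInstance
  have : Finite L := inferInstance
  have : FiniteDimensional L R := Module.Finite.of_finite
  have hmul : finrank F L * finrank L R = finrank F R := Module.finrank_mul_finrank F L R
  have hcardL : Nat.card L = Nat.card F ^ finrank F L := Module.natCard_eq_pow_finrank
  have hpow : a ^ (Nat.card F ^ finrank F L) = a := by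
    have := Fintype.ofFinite L
    have h2 := FiniteField.pow_card (⟨a, haL⟩ : L)
    rw [← Nat.card_eq_fintype_card, hcardL] at h2
    exact congrArg Subtype.val h2
  refine ⟨finrank F L, finrank L R, hmul, finrank_pos, hpow, ?_⟩
  rw [← hcardL, ← card_units_end]
  symm
  -- `b` commuting with `f a` are `L`-linear
  have hlin : ∀ b : Module.End F R, Commute b (f a) → ∀ (c : L) (w : R), b (c • w) = c • b w := by
    intro b hb
    have key : ∀ x : K, x ∈ L → Commute b (f x) := by
      intro x hx
      induction hx using IntermediateField.adjoin_induction with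
      | mem x hx => rw [Set.mem_singleton_iff] at hx; rw [hx]; exact hb
      | algebraMap x => rw [AlgHom.commutes]; exact (Algebra.commutes x b).symm
      | add x y _ _ h1 h2 => rw [map_add]; exact h1.add_right h2
      | inv x _ h1 =>
        by_cases hx0 : x = 0
        · rw [hx0, _root_.inv_zero, map_zero]; exact Commute.zero_right b
        · have e1 : f x * f x⁻¹ = 1 := by rw [← map_mul, mul_inv_cancel₀ hx0, map_one]
          have e2 : f x⁻¹ * f x = 1 := by rw [← map_mul, inv_mul_cancel₀ hx0, map_one]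
          show b * f x⁻¹ = f x⁻¹ * b
          calc b * f x⁻¹ = (f x⁻¹ * f x) * b * f x⁻¹ := by rw [e2, one_mul]
            _ = f x⁻¹ * (f x * b) * f x⁻¹ := by simp only [mul_assoc]
            _ = f x⁻¹ * (b * f x) * f x⁻¹ := by rw [h1.eq]
            _ = f x⁻¹ * b * (f x * f x⁻¹) := by simp only [mul_assoc]
            _ = f x⁻¹ * b := by rw [e1, mul_one]
      | mul x y _ _ h1 h2 => rw [map_mul]; exact h1.mul_right h2
    intro c w
    exact LinearMap.congr_fun (key c c.2) w
  have hdet0 : ∀ B : (Module.End L R)ˣ,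
      LinearMap.det ((B : Module.End L R).restrictScalars F) ≠ 0 := by
    intro B h0
    have e1 : ((B : Module.End L R).restrictScalars F) * (((B⁻¹ : (Module.End L R)ˣ) : Module.End L R).restrictScalars F) = 1 := by
      apply LinearMap.ext
      intro w
      exact LinearMap.congr_fun (B.mul_inv : (B : Module.End L R) * _ = 1) w
    have e2 := congrArg LinearMap.det e1
    rw [map_mul, h0, zero_mul, map_one] at e2
    exact zero_ne_one e2
  let φ : (Module.End L R)ˣ → {b : Module.End F V // LinearMap.det b = 1 ∧ Commute b g} := fun B =>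
    ⟨glue hc ((B : Module.End L R).restrictScalars F) (LinearMap.det ((B : Module.End L R).restrictScalars F))⁻¹, by
      refine ⟨?_, ?_⟩
      · rw [det_glue hc h1, mul_inv_cancel₀ (hdet0 B)]
      · apply ext_of hc
        · intro w
          rw [Module.End.mul_apply, Module.End.mul_apply, glue_left, ha, glue_left, ha]
          congr 1
          have := (B : Module.End L R).map_smul (⟨a, haL⟩ : L) w
          rwa [hsm, hsm] at this
        · intro u
          rw [Module.End.mul_apply, Module.End.mul_apply, glue_right, hl, map_smul, glue_right, map_smul, hl,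
            smul_comm]⟩
  apply Nat.card_eq_of_bijective φ
  constructor
  · intro B B' hBB
    have h2 := congrArg Subtype.val hBB
    apply Units.ext
    apply LinearMap.ext
    intro w
    have h3 := LinearMap.congr_fun h2 (w : V)
    rw [glue_left, glue_left] at h3
    exact Subtype.ext h3
  · rintro ⟨b, hb1, hb2⟩
    have hal' : a - algebraMap F K l ≠ 0 := sub_ne_zero.2 hal
    -- `b` preserves `R` and `C`
    have hbR : ∀ w ∈ R, b w ∈ R := by
      intro w hw
      let w' : R := f (a - algebraMap F K l)⁻¹ ⟨w, hw⟩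
      have h2 : w = g w' - l • (w' : V) := by
        rw [ha]
        have h3 : f (a - algebraMap F K l) w' = ⟨w, hw⟩ := by
          show (f (a - algebraMap F K l) * f (a - algebraMap F K l)⁻¹) ⟨w, hw⟩ = _
          rw [← map_mul, mul_inv_cancel₀ hal', map_one]
          rfl
        rw [map_sub, AlgHom.commutes, LinearMap.sub_apply, Module.algebraMap_end_apply] at h3
        exact (congrArg Subtype.val h3).symm
      have h3 : b w = g (b w') - l • b (w' : V) := by
        conv_lhs => rw [h2]
        rw [map_sub, map_smul, ← Module.End.mul_apply, hb2.eq, Module.End.mul_apply]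
      rw [h3]
      obtain ⟨w1, hw1, u1, hu1, hwu⟩ := Submodule.mem_sup.mp (show b (w' : V) ∈ R ⊔ C by
        rw [hc.sup_eq_top]; exact Submodule.mem_top)
      rw [← hwu, map_add, ha ⟨w1, hw1⟩, hl ⟨u1, hu1⟩, smul_add]
      have : (f a ⟨w1, hw1⟩ : V) + l • u1 - (l • w1 + l • u1) = (f a ⟨w1, hw1⟩ : V) - l • w1 := by abel
      rw [this]
      exact R.sub_mem (f a ⟨w1, hw1⟩).2 (R.smul_mem l hw1)
    have hbC : ∀ u ∈ C, b u ∈ C := by
      intro u hu
      obtain ⟨w1, hw1, u1, hu1, hwu⟩ := Submodule.mem_sup.mp (show b (u : V) ∈ R ⊔ C by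
        rw [hc.sup_eq_top]; exact Submodule.mem_top)
      have h2 : g (b u) = l • b u := by
        rw [← Module.End.mul_apply, ← hb2.eq, Module.End.mul_apply, hl ⟨u, hu⟩, map_smul]
      rw [← hwu, map_add, ha ⟨w1, hw1⟩, hl ⟨u1, hu1⟩, smul_add] at h2
      have h3 : f a ⟨w1, hw1⟩ - l • (⟨w1, hw1⟩ : R) = 0 := by
        apply Subtype.ext
        have := add_right_cancel h2
        show (f a ⟨w1, hw1⟩ : V) - l • w1 = 0
        rw [this, sub_self]
      have h4 : f (a - algebraMap F K l) ⟨w1, hw1⟩ = 0 := by
        rw [map_sub, AlgHom.commutes, LinearMap.sub_apply, Module.algebraMap_end_apply]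
        exact h3
      have h5 : (⟨w1, hw1⟩ : R) = 0 := by
        have h6 : f (a - algebraMap F K l)⁻¹ (f (a - algebraMap F K l) ⟨w1, hw1⟩) = ⟨w1, hw1⟩ := by
          show (f (a - algebraMap F K l)⁻¹ * f (a - algebraMap F K l)) ⟨w1, hw1⟩ = _
          rw [← map_mul, inv_mul_cancel₀ hal', map_one]
          rfl
        rw [← h6, h4, map_zero]
      have h7 : w1 = 0 := congrArg Subtype.val h5
      rw [← hwu, h7, zero_add]
      exact hu1
    -- the restriction
    have hinj : Function.Injective b := by
      have h2 : LinearMap.det b ≠ 0 := by rw [hb1]; exact one_ne_zero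
      exact (LinearMap.equivOfDetNeZero b h2).injective
    have hcm : Commute (b.restrict hbR) (f a) := by
      apply LinearMap.ext
      intro w
      apply Subtype.ext
      show b (f a w : V) = (f a ⟨b w, hbR w w.2⟩ : V)
      rw [← ha, ← ha ⟨b w, hbR w w.2⟩]
      show (b * g) (w : V) = (g * b) (w : V)
      rw [hb2.eq]
    let B0 : Module.End L R :=
      { toFun := b.restrict hbR
        map_add' := map_add _
        map_smul' := hlin _ hcm }
    have hB0 : Function.Injective B0 := by
      intro x y hxy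
      apply Subtype.ext
      apply hinj
      exact congrArg Subtype.val hxy
    let B : (Module.End L R)ˣ := LinearMap.GeneralLinearGroup.ofLinearEquiv (LinearEquiv.ofInjectiveEndo B0 hB0)
    have hB : (B : Module.End L R).restrictScalars F = b.restrict hbR := by
      apply LinearMap.ext
      intro w
      rfl
    -- the scalar
    obtain ⟨u0, hu0⟩ : ∃ u0 : C, u0 ≠ 0 := by
      have : Nontrivial C := Module.nontrivial_of_finrank_pos (R := F) (by rw [h1]; norm_num)
      exact exists_ne 0
    obtain ⟨c, hcu⟩ := (finrank_eq_one_iff_of_nonzero' u0 hu0).mp h1 ⟨b u0, hbC u0 u0.2⟩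
    have hcC : ∀ u : C, b u = c • (u : V) := by
      intro u
      obtain ⟨d, rfl⟩ := (finrank_eq_one_iff_of_nonzero' u0 hu0).mp h1 u
      show b (d • (u0 : V)) = c • (d • (u0 : V))
      rw [map_smul, smul_comm c d]
      congr 1
      exact (congrArg Subtype.val hcu).symm
    have hbg : b = glue hc (b.restrict hbR) c := by
      apply ext_of hc
      · intro w
        rw [glue_left]
        rfl
      · intro u
        rw [glue_right, hcC]
    have hdc : LinearMap.det (b.restrict hbR) * c = 1 := by
      rw [← det_glue hc h1, ← hbg, hb1]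
    refine ⟨B, Subtype.ext ?_⟩
    show glue hc ((B : Module.End L R).restrictScalars F) (LinearMap.det ((B : Module.End L R).restrictScalars F))⁻¹ = b
    rw [hB, ← eq_inv_of_mul_eq_one_right hdc, ← hbg]

end count

/-! ### Commutation up to a scalar -/

section semi

variable [FiniteDimensional F V] {R C : Submodule F V} (hc : IsCompl R C)

include hc in
theorem scalar_eq_one (h1 : finrank F C = 1) (hR : 2 ≤ finrank F R) {K : Type*} [Field K] [Algebra F K]
    (f : K →ₐ[F] Module.End F R) {g : Module.End F V} {a : K} {l : F} (ha : ∀ w : R, g w = f a w)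
    (hl : ∀ u : C, g u = l • (u : V)) (hl0 : l ≠ 0) {b : Module.End F V} (hb : Function.Injective b) {z : F}
    (hz0 : z ≠ 0) (hz : b * g = z • (g * b)) : z = 1 := by
  by_contra hz1
  have hzv : ∀ v, g (b v) = z⁻¹ • b (g v) := by
    intro v
    have h2 := LinearMap.congr_fun hz v
    rw [Module.End.mul_apply, LinearMap.smul_apply, Module.End.mul_apply] at h2
    rw [h2, smul_smul, inv_mul_cancel₀ hz0, one_smul]
  -- eigenvectors
  have heig : ∀ (v : V) (m : F), g v = m • v → ∃ (w : R) (u : C), v = w + u ∧ f a w = m • w ∧ l • u = m • u := by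
    intro v m hv
    obtain ⟨w, hw, u, hu, rfl⟩ := Submodule.mem_sup.mp (show v ∈ R ⊔ C by
      rw [hc.sup_eq_top]; exact Submodule.mem_top)
    refine ⟨⟨w, hw⟩, ⟨u, hu⟩, rfl, ?_⟩
    rw [map_add, ha ⟨w, hw⟩, hl ⟨u, hu⟩, smul_add] at hv
    have h2 : (f a ⟨w, hw⟩ : V) - m • w = m • u - l • u := by
      rw [sub_eq_sub_iff_add_eq_add, hv, add_comm]
    have h3 : (f a ⟨w, hw⟩ : V) - m • w = 0 := by
      have e1 : (f a ⟨w, hw⟩ : V) - m • w ∈ R := R.sub_mem (f a ⟨w, hw⟩).2 (R.smul_mem m hw)
      have e2 : (f a ⟨w, hw⟩ : V) - m • w ∈ C := by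
        rw [h2]; exact C.sub_mem (C.smul_mem m hu) (C.smul_mem l hu)
      exact (Submodule.disjoint_def.mp hc.disjoint) _ e1 e2
    refine ⟨Subtype.ext (sub_eq_zero.1 h3), Subtype.ext ?_⟩
    rw [h3] at h2
    exact (sub_eq_zero.1 h2.symm).symm
  obtain ⟨u0, hu0⟩ : ∃ u0 : C, u0 ≠ 0 := by
    have : Nontrivial C := Module.nontrivial_of_finrank_pos (R := F) (by rw [h1]; norm_num)
    exact exists_ne 0
  have hl' : z⁻¹ * l ≠ l := by
    intro h2
    apply hz1
    have h3 : z⁻¹ = 1 := mul_right_cancel₀ hl0 (by rw [h2, one_mul])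
    rw [← inv_inv z, h3, inv_one]
  obtain ⟨w, u, hwu, hw, hu⟩ := heig (b u0) (z⁻¹ * l) (by
    rw [hzv, hl, map_smul, smul_smul])
  have hu' : u = 0 := by
    by_contra hne
    exact hl' (smul_left_injective F hne hu).symm
  have hw0 : w ≠ 0 := by
    rintro rfl
    rw [hu'] at hwu
    apply hu0
    have : b (u0 : V) = b 0 := by rw [hwu]; simp
    exact Subtype.ext (hb this)
  have haz : a = algebraMap F K (z⁻¹ * l) := by
    by_contra hne
    have hne' : a - algebraMap F K (z⁻¹ * l) ≠ 0 := sub_ne_zero.2 hne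
    apply hw0
    have h2 : f (a - algebraMap F K (z⁻¹ * l)) w = 0 := by
      rw [map_sub, AlgHom.commutes, LinearMap.sub_apply, Module.algebraMap_end_apply, hw, sub_self]
    have h3 : (f (a - algebraMap F K (z⁻¹ * l))⁻¹ * f (a - algebraMap F K (z⁻¹ * l))) w = w := by
      rw [← map_mul, inv_mul_cancel₀ hne', map_one]
      rfl
    rw [← h3, Module.End.mul_apply, h2, map_zero]
  have hfa : ∀ x : R, f a x = (z⁻¹ * l) • x := by
    intro x
    rw [haz, AlgHom.commutes, Module.algebraMap_end_apply]
  have hbR : ∀ x ∈ R, b x ∈ C := by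
    intro x hx
    obtain ⟨w1, u1, hwu1, hw1, hu1⟩ := heig (b x) (z⁻¹ * (z⁻¹ * l)) (by
      rw [hzv, ha ⟨x, hx⟩, hfa]
      show z⁻¹ • b ((z⁻¹ * l) • x) = _
      rw [map_smul, smul_smul])
    have hw10 : w1 = 0 := by
      by_contra hne
      rw [hfa] at hw1
      have h2 := smul_left_injective F hne hw1
      apply hl'
      exact (mul_left_cancel₀ (inv_ne_zero hz0) h2).symm
    rw [hwu1, hw10]
    simp
  have h2 : finrank F R ≤ finrank F C := by
    apply LinearMap.finrank_le_finrank_of_injective (f := (b.restrict hbR))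
    intro x y hxy
    apply Subtype.ext
    apply hb
    exact congrArg Subtype.val hxy
  omega

end semi

/-! ### The decomposition -/

section split

variable [Finite F] [FiniteDimensional F V]

/-- `s ∣ q ^ d - 1` only if `e ∣ d` -/
theorem dvd_of_dvd_pow_sub_one {q s e : ℕ} (hq1 : 1 < q) (he0 : 0 < e) (hsn : s ∣ q ^ e - 1)
    (hsd : ∀ d, 0 < d → d < e → ¬ s ∣ q ^ d - 1) : ∀ d, s ∣ q ^ d - 1 → e ∣ d := by
  intro d hd
  by_contra hnd'
  set c := d % e with he
  have he0 : 0 < c := Nat.pos_of_ne_zero (fun h0 => hnd' (Nat.dvd_of_mod_eq_zero h0))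
  have hen : c < e := Nat.mod_lt _ (by omega)
  apply hsd c he0 hen
  have h1 : q ^ e ≡ 1 [MOD s] := ((Nat.modEq_iff_dvd' (Nat.one_le_pow _ _ (by omega))).mpr hsn).symm
  have h2 : q ^ d ≡ q ^ c [MOD s] := by
    have h3 : q ^ d = (q ^ e) ^ (d / e) * q ^ c := by
      rw [← pow_mul, ← pow_add, Nat.div_add_mod]
    rw [h3]
    have := (h1.pow (d / e)).mul_right (q ^ c)
    rwa [one_pow, one_mul] at this
  have h3 : q ^ d ≡ 1 [MOD s] := ((Nat.modEq_iff_dvd' (Nat.one_le_pow _ _ (by omega))).mpr hd).symm
  exact (Nat.modEq_iff_dvd' (Nat.one_le_pow _ _ (by omega))).mp (h2.symm.trans h3).symm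

/-- **The decomposition** `V = R ⊕ C` of an element `h` of prime order `s`, where the order of `q` modulo `s` is
`n - 1`. -/
theorem exists_split {h : Module.End F V} {s : ℕ} (hs : s.Prime) (hh : h ^ s = 1)
    (hh1 : h ≠ 1) (hn : 3 ≤ finrank F V) (hsn : s ∣ Nat.card F ^ (finrank F V - 1) - 1)
    (hsd : ∀ d, 0 < d → d < finrank F V - 1 → ¬ s ∣ Nat.card F ^ d - 1) (hsq : ¬ s ∣ Nat.card F) :
    ∃ R C : Submodule F V, IsCompl R C ∧ finrank F C = 1 ∧ finrank F R = finrank F V - 1 ∧
      ∃ (K : Type v) (_ : Field K) (_ : Finite K) (_ : Algebra F K) (f : K →ₐ[F] Module.End F R),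
        (∀ u : C, h u = (1 : F) • (u : V)) ∧ (∃ y : K, y ^ s = 1 ∧ y ≠ 1 ∧ ∀ w : R, h w = f y w) ∧
        ∀ g : Module.End F V, Commute g h → ∃ (a : K) (l : F), (∀ w : R, g w = f a w) ∧
          (∀ u : C, g u = l • (u : V)) := by
  have hfinV : Finite V := Module.finite_of_finite F
  set n := finrank F V with hnd
  set q := Nat.card F with hq
  have hq1 : 1 < q := Finite.one_lt_card
  have he := dvd_of_dvd_pow_sub_one hq1 (by omega) hsn hsd
  set C := LinearMap.ker (h - 1) with hC
  have hmemC : ∀ v : V, v ∈ C ↔ h v = v := by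
    intro v
    rw [hC, LinearMap.mem_ker, LinearMap.sub_apply, Module.End.one_apply, sub_eq_zero]
  have h1 := H363.CommUnip.dvd_finrank_sub (j := 0) (e := n - 1) h hs (by rw [zero_add, pow_one]; exact hh) hsq
    (by rw [zero_add, pow_one]; exact he) ⊤ (fun _ _ => Submodule.mem_top)
  rw [top_inf_eq, finrank_top, ← hnd, pow_zero, pow_one] at h1
  have hCtop : C ≠ ⊤ := by
    intro h0
    apply hh1
    rw [← sub_eq_zero]
    exact LinearMap.ker_eq_top.mp h0
  have hCn : finrank F C < n := Submodule.finrank_lt hCtop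
  have hC1 : finrank F C = 1 := by
    obtain ⟨c, hc⟩ := h1
    have hc' : n - finrank F C = (n - 1) * c := hc
    have hc2 : c < 2 := by
      by_contra hcon
      have : (n - 1) * 2 ≤ (n - 1) * c := Nat.mul_le_mul_left _ (by omega)
      omega
    have hc0 : c ≠ 0 := by
      rintro rfl
      omega
    have : c = 1 := by omega
    rw [this, mul_one] at hc'
    omega
  set R := LinearMap.range (h - 1) with hR
  have hRn : finrank F R = n - 1 := by
    have := LinearMap.finrank_range_add_finrank_ker (h - 1)
    rw [← hR, ← hC, hC1] at this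
    omega
  have hs0 : (s : F) ≠ 0 := by
    intro h0
    obtain ⟨p, hchar⟩ := CharP.exists F
    have hps : p ∣ s := (CharP.cast_eq_zero_iff F p s).mp h0
    have hp : p.Prime := by
      rcases CharP.char_is_prime_or_zero F p with hp | hp
      · exact hp
      · exfalso
        rw [hp] at hps
        exact hs.ne_zero (Nat.eq_zero_of_zero_dvd hps)
    have : p = s := (Nat.prime_dvd_prime_iff_eq hp hs).mp hps
    subst this
    letI : Fintype F := Fintype.ofFinite F
    obtain ⟨f, -, hf⟩ := FiniteField.card F p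
    apply hsq
    rw [hq, Nat.card_eq_fintype_card, hf]
    exact dvd_pow_self p f.ne_zero
  have hdisj : Disjoint R C := by
    rw [Submodule.disjoint_def]
    rintro v ⟨w, hw⟩ hvC
    rw [hmemC] at hvC
    have hpow : ∀ i : ℕ, (h ^ i) v = v := by
      intro i
      induction i with
      | zero => rfl
      | succ i ih => rw [pow_succ, Module.End.mul_apply, hvC, ih]
    have h2 : (∑ i ∈ Finset.range s, h ^ i) * (h - 1) = 0 := by
      rw [geom_sum_mul, hh, sub_self]
    have h3 : (∑ i ∈ Finset.range s, h ^ i) v = 0 := by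
      rw [← hw, ← Module.End.mul_apply, h2, LinearMap.zero_apply]
    rw [LinearMap.sum_apply, Finset.sum_congr rfl (fun i _ => hpow i), Finset.sum_const,
      Finset.card_range, ← Nat.cast_smul_eq_nsmul F] at h3
    exact (smul_eq_zero.mp h3).resolve_left hs0
  have hcompl : IsCompl R C := (Submodule.isCompl_iff_disjoint R C (by rw [hC1, hRn]; omega)).mpr hdisj
  -- invariance
  have hgC : ∀ g : Module.End F V, Commute g h → ∀ v ∈ C, g v ∈ C := by
    intro g hgh v hv
    rw [hmemC] at hv ⊢
    rw [← Module.End.mul_apply, ← hgh.eq, Module.End.mul_apply, hv]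
  have hgR : ∀ g : Module.End F V, Commute g h → ∀ v ∈ R, g v ∈ R := by
    rintro g hgh _ ⟨w, rfl⟩
    refine ⟨g w, ?_⟩
    have : Commute g (h - 1) := hgh.sub_right (Commute.one_right g)
    rw [← Module.End.mul_apply, ← Module.End.mul_apply, this.eq]
  have hhR := hgR h (Commute.refl h)
  have hres : ∀ (k : ℕ) (a : Module.End F V) (ha : ∀ v ∈ R, a v ∈ R) (w : R),
      (((a.restrict ha) ^ k) w : V) = (a ^ k) (w : V) := by
    intro k a ha
    induction k with
    | zero => intro w; rfl
    | succ k ih =>
      intro w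
      rw [pow_succ, pow_succ, Module.End.mul_apply, Module.End.mul_apply, ih]
      rfl
  have hx : (h.restrict hhR) ^ s = 1 := by
    ext w
    rw [hres, hh]; rfl
  have hx1 : h.restrict hhR ≠ 1 := by
    intro h0
    have h2 : R ≤ C := by
      intro v hv
      rw [hmemC]
      have := congrArg (fun a : Module.End F R => ((a ⟨v, hv⟩ : R) : V)) h0
      exact this
    have h3 : R = ⊥ := by
      rw [eq_bot_iff]
      intro v hv
      rw [Submodule.mem_bot]
      exact (Submodule.disjoint_def.mp hdisj) v hv (h2 hv)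
    rw [h3, finrank_bot] at hRn
    omega
  obtain ⟨K, i1, i2, i3, f, hf, hK⟩ := H363.CentField.exists_field hs hx hx1 (by rw [hRn]; exact hsn)
    (by rw [hRn]; exact hsd)
  obtain ⟨y, hy⟩ := (hK (h.restrict hhR)).1 (Commute.refl _)
  refine ⟨R, C, hcompl, hC1, hRn, K, i1, i2, i3, f, ?_, ⟨y, ?_, ?_, ?_⟩, ?_⟩
  · intro u
    rw [one_smul]
    exact (hmemC u).1 u.2
  · apply hf
    rw [map_pow, hy, hx, map_one]
  · rintro rfl
    rw [map_one] at hy
    exact hx1 hy.symm
  · intro w
    rw [hy]
    rfl
  · intro g hg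
    obtain ⟨a, ha⟩ := (hK (g.restrict (hgR g hg))).1 (by
      apply LinearMap.ext
      intro w
      apply Subtype.ext
      show g (h (w : V)) = h (g (w : V))
      rw [← Module.End.mul_apply, ← Module.End.mul_apply, hg.eq])
    obtain ⟨u0, hu0⟩ : ∃ u0 : C, u0 ≠ 0 := by
      have : Nontrivial C := Module.nontrivial_of_finrank_pos (R := F) (by rw [hC1]; norm_num)
      exact exists_ne 0
    obtain ⟨c, hcu⟩ := (finrank_eq_one_iff_of_nonzero' u0 hu0).mp hC1 ⟨g u0, hgC g hg u0 u0.2⟩
    refine ⟨a, c, ?_, ?_⟩
    · intro w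
      rw [ha]
      rfl
    · intro u
      obtain ⟨d, rfl⟩ := (finrank_eq_one_iff_of_nonzero' u0 hu0).mp hC1 u
      show g (d • (u0 : V)) = c • (d • (u0 : V))
      rw [map_smul, smul_comm c d]
      congr 1
      exact (congrArg Subtype.val hcu).symm

end split

end Cfsg.Agent.H277.CS
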