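import Mathlib
import Cfsg.Agent.H277.CS.Lin
import Cfsg.Agent.S0243

/-!
# Centralizers of elements of `PSL_n(q)` commuting with an element of order `s`, `ord_s(q) = n - 1`
-/

set_option autoImplicit false
set_option linter.style.haveILetI false

namespace Cfsg.Agent.H277.CS

open Matrix Module Cfsg.Agent.H363.PslSpec Cfsg.Agent.H363.Frat

universe u v

variable {F : Type u} [Field F] {n : ℕ}

/-- the centralizer in `SL_n` -/
theorem card_cent_sl (g : SpecialLinearGroup (Fin n) F) :
    Nat.card (Subgroup.centralizer ({g} : Set (SpecialLinearGroup (Fin n) F))) =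
      Nat.card {b : Module.End F (Fin n → F) // LinearMap.det b = 1 ∧ Commute b (act g)} := by
  let φ : Subgroup.centralizer ({g} : Set (SpecialLinearGroup (Fin n) F)) →
      {b : Module.End F (Fin n → F) // LinearMap.det b = 1 ∧ Commute b (act g)} := fun b =>
    ⟨act (b : SpecialLinearGroup (Fin n) F), det_act _,
      (show Commute (b : SpecialLinearGroup (Fin n) F) g from
        (Subgroup.mem_centralizer_singleton_iff.1 b.2)).map act⟩
  apply Nat.card_eq_of_bijective φ
  constructor
  · intro a b hab
    exact Subtype.ext (act_injective (congrArg Subtype.val hab))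
  · rintro ⟨b, hb1, hb2⟩
    have hdet : (LinearMap.toMatrixAlgEquiv' b).det = 1 := by
      rw [← hb1]
      exact LinearMap.det_toMatrix' b
    let c : SpecialLinearGroup (Fin n) F := ⟨LinearMap.toMatrixAlgEquiv' b, hdet⟩
    have hc : act c = b := by
      rw [act_apply]
      exact Matrix.toLinAlgEquiv'_toMatrixAlgEquiv' b
    refine ⟨⟨c, Subgroup.mem_centralizer_singleton_iff.2 ?_⟩, Subtype.ext hc⟩
    apply act_injective
    rw [map_mul, map_mul, hc]
    exact hb2.eq

/-- the action of central elements -/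
theorem act_center {z : SpecialLinearGroup (Fin n) F} (hz : z ∈ Subgroup.center _) :
    ∃ c : F, act z = c • (1 : Module.End F (Fin n → F)) := by
  obtain ⟨c, hc, hcz⟩ := Matrix.SpecialLinearGroup.mem_center_iff.mp hz
  refine ⟨c, ?_⟩
  rw [act_apply, ← hcz]
  have : (scalar (Fin n)) c = c • (1 : Matrix (Fin n) (Fin n) F) := by
    rw [Matrix.smul_one_eq_diagonal]; rfl
  rw [this, map_smul, map_one]

variable [Finite F]

theorem card_center_sl (hn : 1 ≤ n) :
    Nat.card (Subgroup.center (SpecialLinearGroup (Fin n) F)) = Nat.gcd n (Nat.card F - 1) := by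
  have := Fintype.ofFinite F
  have : Nonempty (Fin n) := ⟨⟨0, by omega⟩⟩
  rw [Nat.card_congr (Matrix.SpecialLinearGroup.center_equiv_rootsOfUnity'
      (n := Fin n) (R := F) ⟨0, by omega⟩).toEquiv, rootsOfUnity_eq_ker,
      IsCyclic.card_powMonoidHom_ker, Nat.card_units, Fintype.card_fin,
      Nat.gcd_comm]

/-- **The list of centralizer orders.** -/
theorem exists_card {s : ℕ} (hs : s.Prime) (hn : 3 ≤ n)
    (hsn : s ∣ Nat.card F ^ (n - 1) - 1) (hsd : ∀ d, 0 < d → d < n - 1 → ¬ s ∣ Nat.card F ^ d - 1)
    (hsq : ¬ s ∣ Nat.card F) {x : ProjectiveSpecialLinearGroup (Fin n) F} (hx : x ≠ 1)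
    (hdx : s ∣ Nat.card (Subgroup.centralizer ({x} : Set (ProjectiveSpecialLinearGroup (Fin n) F)))) :
    ∃ k m : ℕ, k * m = n - 1 ∧ 0 < k ∧ (orderOf x = s → m = 1) ∧
      Nat.card (Subgroup.centralizer ({x} : Set (ProjectiveSpecialLinearGroup (Fin n) F))) *
        Nat.gcd n (Nat.card F - 1) = ∏ i : Fin m, ((Nat.card F ^ k) ^ m - (Nat.card F ^ k) ^ (i : ℕ)) := by
  have hq1 : 1 < Nat.card F := Finite.one_lt_card
  have hfin : Finite (SpecialLinearGroup (Fin n) F) := inferInstance
  have hfin' : Finite (ProjectiveSpecialLinearGroup (Fin n) F) := inferInstance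
  have := Fact.mk hs
  have hsc : ¬ s ∣ Nat.gcd n (Nat.card F - 1) := by
    intro h1
    have h2 : s ∣ Nat.card F - 1 := h1.trans (Nat.gcd_dvd_right _ _)
    apply hsd 1 one_pos (by omega)
    rw [pow_one]; exact h2
  obtain ⟨g, rfl⟩ := pr_surjective x
  obtain ⟨⟨y0, hy0⟩, hy0s⟩ := exists_prime_orderOf_dvd_card' s hdx
  rw [Subgroup.orderOf_mk] at hy0s
  obtain ⟨y1, rfl⟩ := pr_surjective y0
  -- if `x` has order `s`, take `y0 = x`
  obtain ⟨y1, hy0, hy0s, hyx⟩ : ∃ y1 : SpecialLinearGroup (Fin n) F, pr F n y1 ∈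
      Subgroup.centralizer ({pr F n g} : Set (ProjectiveSpecialLinearGroup (Fin n) F)) ∧
      orderOf (pr F n y1) = s ∧ (orderOf (pr F n g) = s → y1 = g) := by
    by_cases h : orderOf (pr F n g) = s
    · exact ⟨g, Subgroup.mem_centralizer_singleton_iff.2 rfl, h, fun _ => rfl⟩
    · exact ⟨y1, hy0, hy0s, fun h' => absurd h' h⟩
  obtain ⟨k', hk1, hk2⟩ := lift_prime_pow (g := y1) (j := 0) hs hsc (by
    rw [zero_add, pow_one, hy0s])
  rw [zero_add, pow_one] at hk1
  rw [pow_zero, pow_one] at hk2
  set y := y1 ^ k' with hy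
  have hcy : Commute (pr F n g) (pr F n y) := by
    rw [hy, map_pow]
    exact (show Commute (pr F n g) (pr F n y1) from
      (Subgroup.mem_centralizer_singleton_iff.1 hy0).symm).pow_right k'
  have hcm : Commute g y := by
    have hz : g * y * g⁻¹ * y⁻¹ ∈ Subgroup.center (SpecialLinearGroup (Fin n) F) := by
      rw [← pr_eq_one, map_mul, map_mul, map_mul, map_inv, map_inv, hcy.eq, mul_inv_cancel_right, mul_inv_cancel]
    set z := g * y * g⁻¹ * y⁻¹ with hzd
    have h1 : g * y * g⁻¹ = z * y := by rw [hzd]; group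
    have h2 : (g * y * g⁻¹) ^ s = 1 := by
      rw [conj_pow, hk1, mul_one, mul_inv_cancel]
    rw [h1, (show Commute z y from (Subgroup.mem_center_iff.1 hz y).symm).mul_pow, hk1, mul_one] at h2
    have h3 := center_pow z hz
    have h4 : orderOf z ∣ Nat.gcd s (Nat.gcd n (Nat.card F - 1)) :=
      Nat.dvd_gcd (orderOf_dvd_of_pow_eq_one h2) (orderOf_dvd_of_pow_eq_one h3)
    rw [(Nat.Prime.coprime_iff_not_dvd hs).2 hsc, Nat.dvd_one, orderOf_eq_one_iff] at h4
    rw [h4, one_mul, mul_inv_eq_iff_eq_mul] at h1
    exact h1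
  have hfr : finrank F (Fin n → F) = n := finrank_fin_fun F
  have h1 : act y ^ s = 1 := by rw [← map_pow, hk1, map_one]
  have h2 : act y ≠ 1 := by
    intro h
    exact hk2 (act_injective (by rw [h, map_one]))
  obtain ⟨R, C, hc, hC1, hRn, K, i1, i2, i3, f, hCy, ⟨b, hb1, hb2, hb3⟩, hall⟩ := exists_split hs h1 h2
    (by rw [hfr]; exact hn) (by rw [hfr]; exact hsn) (by rw [hfr]; exact hsd) hsq
  rw [hfr] at hRn
  obtain ⟨a, l, ha, hl⟩ := hall (act g) (hcm.map act)
  -- `g` is not scalar
  have hal : a ≠ algebraMap F K l := by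
    intro h
    apply hx
    rw [pr_eq_one, Subgroup.mem_center_iff]
    intro c
    apply act_injective
    have hg : act g = l • (1 : Module.End F (Fin n → F)) := by
      apply ext_of hc
      · intro w
        rw [ha, h, AlgHom.commutes, Module.algebraMap_end_apply]
        rfl
      · intro u
        rw [hl]
        rfl
    rw [map_mul, map_mul, hg, mul_smul_comm, smul_mul_assoc, one_mul, mul_one]
  have hg0 : ∀ v, act g v = 0 → v = 0 := by
    intro v hv
    have e1 : act g⁻¹ * act g = 1 := by rw [← map_mul, inv_mul_cancel, map_one]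
    have e2 := LinearMap.congr_fun e1 v
    rw [Module.End.mul_apply, hv, map_zero] at e2
    exact e2.symm
  have hl0 : l ≠ 0 := by
    rintro rfl
    have : Nontrivial C := Module.nontrivial_of_finrank_pos (R := F) (by rw [hC1]; norm_num)
    obtain ⟨u0, hu0⟩ := exists_ne (0 : C)
    apply hu0
    apply Subtype.ext
    apply hg0
    rw [hl, zero_smul]
  obtain ⟨k, m, hkm, hk0, hpow, hcard⟩ := card_comm hc hC1 f ha hl hal
  rw [hRn] at hkm
  refine ⟨k, m, hkm, hk0, ?_, ?_⟩
  · -- `x` of order `s`
    intro hxs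
    have hyg := hyx hxs
    have hRnt : Nontrivial R := Module.nontrivial_of_finrank_pos (R := F) (by omega)
    have hfinj : Function.Injective f := f.toRingHom.injective
    -- `y` is a power of `g`
    have hpw : ∀ (j : ℕ) (w : R), act (g ^ j) w = f (a ^ j) w := by
      intro j
      induction j with
      | zero => intro w; rw [pow_zero, pow_zero, map_one, map_one]; rfl
      | succ j ih =>
        intro w
        rw [pow_succ, map_mul, Module.End.mul_apply, ha, ih, pow_succ, map_mul, Module.End.mul_apply]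
    have hby : b = a ^ k' := by
      apply hfinj
      apply LinearMap.ext
      intro w
      apply Subtype.ext
      rw [← hb3, hy, hyg, hpw]
    have hb0 : b ≠ 0 := by
      rintro rfl
      rw [zero_pow hs.ne_zero] at hb1
      exact zero_ne_one hb1
    have hq0 : 0 < Nat.card F ^ k := by positivity
    have hbq : b ^ (Nat.card F ^ k - 1) = 1 := by
      have e1 : b ^ (Nat.card F ^ k) = b := by
        rw [hby, ← pow_mul, mul_comm k' (Nat.card F ^ k), pow_mul, hpow]
      apply mul_left_cancel₀ hb0
      rw [← pow_succ', Nat.sub_add_cancel hq0, e1, mul_one]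
    have hbs : orderOf b = s := orderOf_eq_prime hb1 hb2
    have hd : s ∣ Nat.card F ^ k - 1 := hbs ▸ orderOf_dvd_of_pow_eq_one hbq
    have hdk := dvd_of_dvd_pow_sub_one hq1 (by omega) hsn hsd k hd
    have hk' : k ∣ n - 1 := ⟨m, hkm.symm⟩
    have hkn : k = n - 1 := Nat.dvd_antisymm hk' hdk
    rw [hkn] at hkm
    exact Nat.eq_of_mul_eq_mul_left (by omega : 0 < n - 1) (by rw [hkm, mul_one])
  · rw [← hcard, ← card_cent_sl]
    -- indices
    have hcomap : (Subgroup.centralizer ({pr F n g} : Set (ProjectiveSpecialLinearGroup (Fin n) F))).comap (pr F n) =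
        Subgroup.centralizer ({g} : Set (SpecialLinearGroup (Fin n) F)) := by
      ext c
      rw [Subgroup.mem_comap, Subgroup.mem_centralizer_singleton_iff, Subgroup.mem_centralizer_singleton_iff]
      constructor
      · intro hcg
        have hz : c * g * c⁻¹ * g⁻¹ ∈ Subgroup.center (SpecialLinearGroup (Fin n) F) := by
          rw [← pr_eq_one, map_mul, map_mul, map_mul, map_inv, map_inv, hcg, mul_inv_cancel_right, mul_inv_cancel]
        obtain ⟨ζ, hζ⟩ := act_center hz
        have e1 : act c * act g = ζ • (act g * act c) := by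
          have : c * g = (c * g * c⁻¹ * g⁻¹) * (g * c) := by group
          rw [← map_mul, this, map_mul, hζ, smul_mul_assoc, one_mul, map_mul]
        have hζ0 : ζ ≠ 0 := by
          rintro rfl
          rw [zero_smul] at hζ
          have e2 : act (c * g * c⁻¹ * g⁻¹) * act (c * g * c⁻¹ * g⁻¹)⁻¹ = 1 := by
            rw [← map_mul, mul_inv_cancel, map_one]
          rw [hζ, zero_mul] at e2
          have : Nontrivial (Fin n → F) := by
            have : Nonempty (Fin n) := ⟨⟨0, by omega⟩⟩
            exact Function.nontrivial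
          exact zero_ne_one e2
        have e3 := scalar_eq_one hc hC1 (by omega) f ha hl hl0
          (H363.PslTorus.act_injective_apply c) hζ0 e1
        rw [e3, one_smul, ← map_mul, ← map_mul] at e1
        exact act_injective e1
      · intro hcg
        rw [← map_mul, hcg, map_mul]
    have hidx := Subgroup.index_comap_of_surjective
      (Subgroup.centralizer ({pr F n g} : Set (ProjectiveSpecialLinearGroup (Fin n) F))) (pr_surjective (F := F) (n := n))
    rw [hcomap] at hidx
    have e1 := (Subgroup.centralizer ({g} : Set (SpecialLinearGroup (Fin n) F))).card_mul_index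
    have e2 := (Subgroup.centralizer ({pr F n g} : Set (ProjectiveSpecialLinearGroup (Fin n) F))).card_mul_index
    have e3 := Subgroup.card_eq_card_quotient_mul_card_subgroup (Subgroup.center (SpecialLinearGroup (Fin n) F))
    have e4 : Nat.card (SpecialLinearGroup (Fin n) F ⧸ Subgroup.center (SpecialLinearGroup (Fin n) F)) =
      Nat.card (ProjectiveSpecialLinearGroup (Fin n) F) := rfl
    rw [card_center_sl (by omega), e4, ← e1, ← e2, ← hidx] at e3
    have h0 : 0 < (Subgroup.centralizer ({g} : Set (SpecialLinearGroup (Fin n) F))).index :=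
      Nat.pos_of_ne_zero Subgroup.index_ne_zero_of_finite
    apply Nat.eq_of_mul_eq_mul_right h0
    rw [e3]
    ring

end Cfsg.Agent.H277.CS
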