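import Mathlib
import Cfsg.Agent.H277.CS.PslCent
import Cfsg.Agent.H431.CS.Defs

/-!
# S3677: the lattice of `PSL_n(q)` for a prime `r` with `ord_r(q) = n - 1`
-/

set_option autoImplicit false

namespace Cfsg.Agent.H277.CS

open Matrix Module Cfsg.Agent.H363.PslSpec Cfsg.Agent.H431.CS Cfsg.Agent.H364 Cfsg.Agent.H370.AAM

universe v

theorem prod_gl {q : ℕ} (n : ℕ) :
    ∏ i : Fin n, (q ^ n - q ^ (i : ℕ)) = q ^ (n * (n - 1) / 2) * ∏ i ∈ Finset.range n, (q ^ (i + 1) - 1) := by
  rw [Fin.prod_univ_eq_prod_range (fun i => q ^ n - q ^ i) n]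
  have h1 : ∀ i ∈ Finset.range n, q ^ n - q ^ i = q ^ i * (q ^ (n - i) - 1) := by
    intro i hi
    rw [Finset.mem_range] at hi
    rw [Nat.mul_sub, ← pow_add, Nat.add_sub_cancel' hi.le, mul_one]
  rw [Finset.prod_congr rfl h1, Finset.prod_mul_distrib, Finset.prod_pow_eq_pow_sum, ← Finset.sum_range_id_mul_two]
  congr 1
  · rw [Nat.mul_div_cancel _ (by norm_num)]
  · rw [← Finset.prod_range_reflect]
    refine Finset.prod_congr rfl fun i hi => ?_
    rw [Finset.mem_range] at hi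
    congr 2
    omega

theorem card_psl {F : Type*} [Field F] [Fintype F] {q : ℕ} (hF : Fintype.card F = q) {n : ℕ} (hn : 2 ≤ n) :
    Nat.gcd n (q - 1) * Nat.card (ProjectiveSpecialLinearGroup (Fin n) F) =
      q ^ (n * (n - 1) / 2) * ∏ i ∈ Finset.range (n - 1), (q ^ (i + 2) - 1) := by
  have h := S0243.result hF n hn
  have hq : 2 ≤ q := hF ▸ Fintype.one_lt_card
  obtain ⟨m, rfl⟩ := Nat.exists_eq_add_of_le' hn
  rw [prod_gl, Finset.prod_range_succ', zero_add, pow_one, mul_left_comm, ← mul_assoc (q ^ _),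
    mul_comm _ (q - 1)] at h
  exact Nat.eq_of_mul_eq_mul_left (show 0 < q - 1 by omega) h

theorem fact_of {p c d e X : ℕ} (hp : p.Prime) (hd : ¬ p ∣ d) (hX : ¬ p ∣ X) (h : c * d = p ^ e * X) :
    c.factorization p = e := by
  have hX0 : X ≠ 0 := by rintro rfl; exact hX (dvd_zero p)
  have hd0 : d ≠ 0 := by rintro rfl; exact hd (dvd_zero p)
  have hc0 : c ≠ 0 := by
    rintro rfl
    rw [zero_mul] at h
    have := (mul_eq_zero.1 h.symm).resolve_left (pow_ne_zero _ hp.ne_zero)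
    exact hX0 this
  have h1 : (c * d).factorization p = (p ^ e * X).factorization p := by rw [h]
  rw [Nat.factorization_mul hc0 hd0, Nat.factorization_mul (pow_ne_zero _ hp.ne_zero) hX0, hp.factorization_pow] at h1
  simp only [Finsupp.add_apply, Finsupp.single_eq_same] at h1
  rw [Nat.factorization_eq_zero_of_not_dvd hd, Nat.factorization_eq_zero_of_not_dvd hX] at h1
  simpa using h1

theorem not_dvd_pow_sub_one {p q j : ℕ} (hp : p.Prime) (hq : 1 ≤ q) (hpq : p ∣ q) (hj : 0 < j) : ¬ p ∣ q ^ j - 1 := by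
  intro h
  have h1 : p ∣ q ^ j := dvd_pow hpq (by omega)
  have h2 : 1 ≤ q ^ j := Nat.one_le_pow _ _ (by omega)
  have h3 : p ∣ 1 := by
    have := (Nat.dvd_sub h1 h)
    rwa [Nat.sub_sub_self h2] at this
  exact hp.one_lt.ne' (Nat.dvd_one.1 h3)

theorem not_dvd_prod_pow {p q a m : ℕ} (hp : p.Prime) (hq : 1 ≤ q) (hpq : p ∣ q) (ha : 0 < a) :
    ¬ p ∣ ∏ i ∈ Finset.range m, (q ^ (i + a) - 1) := by
  rw [Prime.dvd_finsetProd_iff hp.prime]
  rintro ⟨i, -, hi⟩
  exact not_dvd_pow_sub_one hp hq hpq (by omega) hi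

variable {F : Type v} [Field F] [Fintype F] {p f n r : ℕ}

/-- **L-PSL-sub.** -/
theorem lat_psl_sub (hp : p.Prime) (hf : 1 ≤ f) (hF : Fintype.card F = p ^ f) (hn : 3 ≤ n) (hr : r.Prime)
    (ho : orderOf (((p ^ f : ℕ)) : ZMod r) = n - 1) :
    Lat (Matrix.ProjectiveSpecialLinearGroup (Fin n) F) p r (((p ^ f) ^ (n - 1) - 1) / Nat.gcd n (p ^ f - 1)) := by
  have := Fact.mk hr
  have := Fact.mk hp
  set S := Matrix.ProjectiveSpecialLinearGroup (Fin n) F with hS
  have hfin : Finite S := inferInstance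
  set q := p ^ f with hq
  have hqF : Nat.card F = q := by rw [Nat.card_eq_fintype_card, hF]
  have hq1 : 1 < q := Nat.one_lt_pow (by omega) hp.one_lt
  have hpq : p ∣ q := dvd_pow_self p (by omega)
  -- divisibility
  have hmem : ∀ d, r ∣ q ^ d - 1 ↔ n - 1 ∣ d := by
    intro d
    rw [← ho, orderOf_dvd_iff_pow_eq_one, ← Nat.cast_pow, ← sub_eq_zero, ← ZMod.natCast_eq_zero_iff,
      Nat.cast_sub (Nat.one_le_pow _ _ (by omega)), Nat.cast_one]
  have hrq : ¬ r ∣ q := by
    intro h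
    have h0 : ((q : ℕ) : ZMod r) = 0 := (ZMod.natCast_eq_zero_iff _ _).2 h
    rw [h0, orderOf_eq_zero_iff'.2 (fun k hk => by rw [zero_pow (by omega)]; exact zero_ne_one)] at ho
    omega
  have hsn : r ∣ Nat.card F ^ (n - 1) - 1 := by rw [hqF]; exact (hmem _).2 dvd_rfl
  have hsd : ∀ d, 0 < d → d < n - 1 → ¬ r ∣ Nat.card F ^ d - 1 := by
    intro d hd0 hd1 h
    rw [hqF, hmem] at h
    exact absurd (Nat.le_of_dvd hd0 h) (by omega)
  have hsq : ¬ r ∣ Nat.card F := by rw [hqF]; exact hrq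
  set d := Nat.gcd n (q - 1) with hd
  have hd0 : 0 < d := Nat.gcd_pos_of_pos_right _ (by omega)
  have hdq : d ∣ q - 1 := Nat.gcd_dvd_right _ _
  have hpd : ¬ p ∣ d := by
    intro h
    have := not_dvd_pow_sub_one (j := 1) hp hq1.le hpq one_pos
    rw [pow_one] at this
    exact this (h.trans hdq)
  have hrd : ¬ r ∣ d := by
    intro h
    have h1 : r ∣ q ^ 1 - 1 := by rw [pow_one]; exact h.trans hdq
    rw [hmem] at h1
    have := Nat.le_of_dvd one_pos h1
    omega
  have hdm : d ∣ q ^ (n - 1) - 1 := by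
    have := Nat.sub_dvd_pow_sub_pow q 1 (n - 1)
    rw [one_pow] at this
    exact hdq.trans this
  set m0 := (q ^ (n - 1) - 1) / d with hm0
  have hm0d : m0 * d = q ^ (n - 1) - 1 := Nat.div_mul_cancel hdm
  have hpm : ¬ p ∣ m0 := by
    intro h
    exact not_dvd_pow_sub_one (j := n - 1) hp hq1.le hpq (by omega) (hm0d ▸ Dvd.dvd.mul_right h d)
  have hcS := card_psl hF (n := n) (by omega)
  rw [← hd, ← hS] at hcS
  -- `p`-part of `|S|`
  have hpS : (Nat.card S).factorization p = f * (n * (n - 1) / 2) := by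
    apply fact_of hp hpd (not_dvd_prod_pow (m := n - 1) hp hq1.le hpq (show 0 < 2 by norm_num))
    rw [mul_comm, hcS, hq, ← pow_mul]
  -- `r`-part of `|S|`
  have hrS' : d * Nat.card S = (q ^ (n - 1) - 1) * (q ^ (n * (n - 1) / 2) *
      ∏ i ∈ (Finset.range (n - 1)).erase (n - 3), (q ^ (i + 2) - 1)) := by
    rw [hcS, ← Finset.mul_prod_erase (Finset.range (n - 1)) (fun i => q ^ (i + 2) - 1)
      (show n - 3 ∈ Finset.range (n - 1) by rw [Finset.mem_range]; omega)]
    have : n - 3 + 2 = n - 1 := by omega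
    rw [this]
    ring
  have hrX : ¬ r ∣ q ^ (n * (n - 1) / 2) * ∏ i ∈ (Finset.range (n - 1)).erase (n - 3), (q ^ (i + 2) - 1) := by
    rw [hr.dvd_mul, not_or]
    refine ⟨fun h => hrq (hr.dvd_of_dvd_pow h), ?_⟩
    rw [Prime.dvd_finsetProd_iff hr.prime]
    rintro ⟨i, hi, hri⟩
    rw [Finset.mem_erase, Finset.mem_range] at hi
    rw [hmem] at hri
    obtain ⟨c, hc⟩ := hri
    have hc2 : c < 2 := by
      by_contra hcon
      have : (n - 1) * 2 ≤ (n - 1) * c := Nat.mul_le_mul_left _ (by omega)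
      omega
    interval_cases c
    · omega
    · omega
  have hrS : r ∣ Nat.card S := by
    have h1 : r ∣ d * Nat.card S := by
      rw [hrS']
      exact Dvd.dvd.mul_right ((hmem _).2 dvd_rfl) _
    exact (hr.dvd_mul.1 h1).resolve_left hrd
  have hfull : r ^ (Nat.card S).factorization r ∣ m0 := by
    have hm00 : m0 ≠ 0 := by
      intro h0
      rw [h0] at hpm
      exact hpm (dvd_zero p)
    rw [hr.pow_dvd_iff_le_factorization hm00]
    have hqn : q ^ (n - 1) - 1 ≠ 0 := by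
      rw [← hm0d]
      exact mul_ne_zero hm00 hd0.ne'
    have e1 : (d * Nat.card S).factorization r = (Nat.card S).factorization r := by
      rw [Nat.factorization_mul hd0.ne' Nat.card_pos.ne']
      simp [Nat.factorization_eq_zero_of_not_dvd hrd]
    have hX0 : q ^ (n * (n - 1) / 2) * ∏ i ∈ (Finset.range (n - 1)).erase (n - 3), (q ^ (i + 2) - 1) ≠ 0 := by
      intro h0
      rw [h0] at hrX
      exact hrX (dvd_zero r)
    have e2 : (m0 * d).factorization r = m0.factorization r := by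
      rw [Nat.factorization_mul hm00 hd0.ne']
      simp [Nat.factorization_eq_zero_of_not_dvd hrd]
    rw [← e1, ← e2, hrS', hm0d, Nat.factorization_mul hqn hX0]
    simp [Nat.factorization_eq_zero_of_not_dvd hrX]
  -- the list
  have hlist : ∀ x : S, x ≠ 1 → r ∣ Nat.card (Subgroup.centralizer ({x} : Set S)) →
      ∃ k m : ℕ, k * m = n - 1 ∧ 0 < k ∧ 0 < m ∧ (orderOf x = r → m = 1) ∧
        Nat.card (Subgroup.centralizer ({x} : Set S)) * d =
          p ^ (f * k * (m * (m - 1) / 2)) * ∏ i ∈ Finset.range m, ((q ^ k) ^ (i + 1) - 1) := by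
    intro x hx hrx
    obtain ⟨k, m, hkm, hk, hm, hc⟩ := exists_card hr hn hsn hsd hsq hx hrx
    refine ⟨k, m, hkm, hk, ?_, hm, ?_⟩
    · rcases Nat.eq_zero_or_pos m with h | h
      · rw [h, mul_zero] at hkm; omega
      · exact h
    · rw [hqF, prod_gl] at hc
      rw [hd, hc, hq, ← pow_mul, ← pow_mul, mul_assoc f k]
  have hval : ∀ (c k m : ℕ), 0 < k → c * d = p ^ (f * k * (m * (m - 1) / 2)) *
      ∏ i ∈ Finset.range m, ((q ^ k) ^ (i + 1) - 1) → c.factorization p = f * k * (m * (m - 1) / 2) := by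
    intro c k m hk h
    exact fact_of hp hpd (not_dvd_prod_pow hp (Nat.one_le_pow _ _ (by omega)) (dvd_pow hpq (by omega))
      one_pos) h
  have hone : ∀ (c k m : ℕ), k * m = n - 1 → m = 1 → c * d = p ^ (f * k * (m * (m - 1) / 2)) *
      ∏ i ∈ Finset.range m, ((q ^ k) ^ (i + 1) - 1) → c = m0 := by
    intro c k m hkm hm h
    subst hm
    rw [mul_one] at hkm
    apply Nat.eq_of_mul_eq_mul_right hd0
    rw [h, hm0d, hkm]
    simp
  have hne1 : ∀ x : S, Nat.card (Subgroup.centralizer ({x} : Set S)) ≠ Nat.card S → x ≠ 1 := by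
    rintro x hc rfl
    apply hc
    have : Subgroup.centralizer ({1} : Set S) = ⊤ := by
      rw [eq_top_iff]
      intro y _
      rw [Subgroup.mem_centralizer_singleton_iff]
      simp
    rw [this, Subgroup.card_top]
  -- elements of order `r`
  have hordr : ∀ y : S, orderOf y = r → Nat.card (Subgroup.centralizer ({y} : Set S)) = m0 := by
    intro y hy
    have hy1 : y ≠ 1 := by
      rintro rfl
      rw [orderOf_one] at hy
      exact hr.one_lt.ne hy
    obtain ⟨k, m, hkm, hk, hm, hm1, hc⟩ := hlist y hy1 (dvd_cent (Commute.refl y) hy.symm.dvd)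
    exact hone _ k m hkm (hm1 hy) hc
  refine ⟨hrS, ?_, ?_, hfull, hpm, ?_, ?_, ?_⟩
  · -- h0
    have hpS1 : p ∣ Nat.card S := by
      have h1 : p ∣ d * Nat.card S := by
        rw [hcS]
        apply Dvd.dvd.mul_right
        apply dvd_pow hpq
        have : 2 * 3 ≤ n * (n - 1) := by
          calc 2 * 3 = 3 * 2 := by norm_num
            _ ≤ n * (n - 1) := Nat.mul_le_mul hn (by omega)
        omega
      exact (hp.dvd_mul.1 h1).resolve_left hpd
    obtain ⟨x, hx⟩ := exists_prime_orderOf_dvd_card' p hpS1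
    refine ⟨_, mem_co x, ?_⟩
    intro hrx
    obtain ⟨⟨y, hy⟩, hyr⟩ := exists_prime_orderOf_dvd_card' r hrx
    rw [Subgroup.orderOf_mk] at hyr
    apply hpm
    rw [← hordr y hyr]
    exact dvd_cent (mem_cent.1 hy).symm hx.symm.dvd
  · -- mem
    obtain ⟨y, hy⟩ := exists_prime_orderOf_dvd_card' r hrS
    exact ⟨y, hordr y hy⟩
  · -- one
    rintro _ ⟨x, rfl⟩ hcx hrx hpx
    dsimp only at hcx hrx hpx ⊢
    obtain ⟨k, m, hkm, hk, hm, -, hc⟩ := hlist x (hne1 x hcx) hrx
    have hv := hval _ k m hk hc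
    rw [Nat.factorization_eq_zero_of_not_dvd hpx] at hv
    apply hone _ k m hkm _ hc
    by_contra hm1
    have h2 : 2 * 1 ≤ m * (m - 1) := Nat.mul_le_mul (by omega) (by omega)
    have h3 : 0 < m * (m - 1) / 2 := by omega
    have h4 : 0 < f * k * (m * (m - 1) / 2) := by positivity
    omega
  · -- h3
    rintro _ ⟨x, rfl⟩ hcx hrx hpx
    dsimp only at hcx hrx hpx
    obtain ⟨k, m, hkm, hk, hm, -, hc⟩ := hlist x (hne1 x hcx) hrx
    have hv := hval _ k m hk hc
    rw [hp.pow_dvd_iff_le_factorization Nat.card_pos.ne', hv, hpS] at hpx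
    have h1 : k * (m * (m - 1) / 2) < n * (n - 1) / 2 := by
      have e1 : k * (m * (m - 1) / 2) * 2 = (n - 1) * (m - 1) := by
        rw [mul_assoc, Nat.div_mul_cancel (Nat.even_mul_pred_self m).two_dvd, ← mul_assoc, hkm]
      have e2 : n * (n - 1) / 2 * 2 = n * (n - 1) := Nat.div_mul_cancel (Nat.even_mul_pred_self n).two_dvd
      have hmn : m ≤ n - 1 := hkm ▸ Nat.le_mul_of_pos_left m hk
      have e3 : (n - 1) * (m - 1) < n * (n - 1) := by
        rw [mul_comm n]
        exact Nat.mul_lt_mul_of_pos_left (by omega) (by omega)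
      omega
    have h2 : f * k * (m * (m - 1) / 2) < f * (n * (n - 1) / 2) := by
      rw [mul_assoc]
      exact Nat.mul_lt_mul_of_pos_left h1 (by omega)
    omega
  · -- h4
    rintro _ ⟨x, rfl⟩ hcx hrx hpx
    dsimp only at hcx hrx hpx ⊢
    right
    rintro _ ⟨x', rfl⟩ hrx' hdvd hfac
    dsimp only at hrx' hdvd hfac ⊢
    have hcx' : Nat.card (Subgroup.centralizer ({x'} : Set S)) ≠ Nat.card S := by
      intro h
      apply hcx
      exact Nat.dvd_antisymm (Subgroup.card_subgroup_dvd_card _) (h ▸ hdvd)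
    obtain ⟨k, m, hkm, hk, hm, -, hc⟩ := hlist x (hne1 x hcx) hrx
    obtain ⟨k', m', hkm', hk', hm', -, hc'⟩ := hlist x' (hne1 x' hcx') hrx'
    rw [hval _ k m hk hc, hval _ k' m' hk' hc'] at hfac
    rw [mul_assoc, mul_assoc] at hfac
    have h1 := Nat.eq_of_mul_eq_mul_left (by omega : 0 < f) hfac
    have e1 : k * (m * (m - 1) / 2) * 2 = (n - 1) * (m - 1) := by
      rw [mul_assoc, Nat.div_mul_cancel (Nat.even_mul_pred_self m).two_dvd, ← mul_assoc, hkm]
    have e2 : k' * (m' * (m' - 1) / 2) * 2 = (n - 1) * (m' - 1) := by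
      rw [mul_assoc, Nat.div_mul_cancel (Nat.even_mul_pred_self m').two_dvd, ← mul_assoc, hkm']
    rw [h1, e1] at e2
    have h2 := Nat.eq_of_mul_eq_mul_left (by omega : 0 < n - 1) e2
    have h3 : m = m' := by omega
    subst h3
    have h4 : k = k' := Nat.eq_of_mul_eq_mul_right hm (hkm.trans hkm'.symm)
    subst h4
    exact Nat.eq_of_mul_eq_mul_right hd0 (hc'.trans hc.symm)

end Cfsg.Agent.H277.CS
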