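import Mathlib
import Cfsg.Agent.H277.CS.PslSub
import Cfsg.Agent.S2643
import Cfsg.Agent.LieClassical.SUBasic
import Cfsg.Prelude.Def_Classical

/-!
# S3677: regular unipotent elements of `PSL_n(q)`, `PSU_n(q)`
-/

set_option autoImplicit false
set_option linter.style.haveILetI false

namespace Cfsg.Agent.H277.CS

open Matrix Module Cfsg.Agent.H363.PslSpec Cfsg.Agent.H370.AAM

universe u v

section lin

set_option linter.unusedSectionVars false

variable {F : Type u} {V : Type v} [Field F] [AddCommGroup V] [Module F V] [FiniteDimensional F V]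

/-- an endomorphism commuting with a regular nilpotent one is a scalar plus a nilpotent one -/
theorem exists_scalar_add {N c : Module.End F V} {n : ℕ} (hN : N ^ n = 0) (h1 : finrank F (LinearMap.ker N) = 1)
    (hc : Commute c N) : ∃ l : F, (c - algebraMap F (Module.End F V) l) ^ n = 0 := by
  obtain ⟨e, he⟩ : ∃ e : LinearMap.ker N, e ≠ 0 := by
    have : Nontrivial (LinearMap.ker N) := Module.nontrivial_of_finrank_pos (R := F) (by rw [h1]; norm_num)
    exact exists_ne 0
  have hck : ∀ v ∈ LinearMap.ker N, c v ∈ LinearMap.ker N := by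
    intro v hv
    rw [LinearMap.mem_ker] at hv ⊢
    rw [← Module.End.mul_apply, ← hc.eq, Module.End.mul_apply, hv, map_zero]
  obtain ⟨l, hl⟩ := (finrank_eq_one_iff_of_nonzero' e he).mp h1 ⟨c e, hck e e.2⟩
  refine ⟨l, ?_⟩
  set h := c - algebraMap F (Module.End F V) l with hh
  have hhN : Commute h N := hc.sub_left (Algebra.commute_algebraMap_left l N)
  have hker : ∀ v ∈ LinearMap.ker N, h v = 0 := by
    intro v hv
    obtain ⟨d, hd⟩ := (finrank_eq_one_iff_of_nonzero' e he).mp h1 ⟨v, hv⟩
    have hd' : v = d • (e : V) := (congrArg Subtype.val hd).symm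
    have hl' : l • (e : V) = c e := congrArg Subtype.val hl
    rw [hh, LinearMap.sub_apply, Module.algebraMap_end_apply, hd', map_smul, ← hl', smul_comm, sub_self]
  have key : ∀ i : ℕ, ∀ v, (N ^ i) v = 0 → (h ^ i) v = 0 := by
    intro i
    induction i with
    | zero => intro v hv; exact hv
    | succ i ih =>
      intro v hv
      rw [pow_succ, Module.End.mul_apply]
      apply ih
      rw [← Module.End.mul_apply, ← (hhN.pow_right i).eq, Module.End.mul_apply]
      apply hker
      rw [LinearMap.mem_ker, ← Module.End.mul_apply, ← pow_succ', hv]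
  apply LinearMap.ext
  intro v
  exact key n v (by rw [hN]; rfl)

/-- an endomorphism commuting with a regular nilpotent one is determined by one vector -/
theorem exists_cyclic {N : Module.End F V} {n : ℕ} (hN : N ^ n = 0) (h1 : finrank F (LinearMap.ker N) = 1) :
    ∃ v : V, ∀ c c' : Module.End F V, Commute c N → Commute c' N → c v = c' v → c = c' := by
  -- the image of `N` is a hyperplane
  have hrk := LinearMap.finrank_range_add_finrank_ker N
  have hr : LinearMap.range N < ⊤ := by
    rw [lt_top_iff_ne_top]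
    intro h
    rw [h, finrank_top, h1] at hrk
    omega
  obtain ⟨v, hv⟩ := SetLike.exists_of_lt hr
  refine ⟨v, ?_⟩
  intro c c' hc hc' hcc
  -- the submodule `E` where they agree
  let E : Submodule F V := LinearMap.eqLocus c c'
  have hE : ∀ w, w ∈ E ↔ c w = c' w := fun w => Iff.rfl
  have hNE : ∀ w ∈ E, N w ∈ E := by
    intro w hw
    rw [hE] at hw ⊢
    rw [← Module.End.mul_apply, ← Module.End.mul_apply, hc.eq, hc'.eq, Module.End.mul_apply, Module.End.mul_apply, hw]
  -- `E + range N = ⊤`
  have hsup : E ⊔ LinearMap.range N = ⊤ := by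
    apply Submodule.eq_top_of_finrank_eq
    have h2 : LinearMap.range N < E ⊔ LinearMap.range N := by
      refine lt_of_le_of_ne le_sup_right ?_
      intro h
      apply hv.2
      rw [h]
      exact Submodule.mem_sup_left ((hE v).2 hcc)
    have h3 := Submodule.finrank_lt_finrank_of_lt h2
    have h4 := Submodule.finrank_le (E ⊔ LinearMap.range N)
    omega
  have key : ∀ i : ℕ, ∀ w : V, ∃ e ∈ E, ∃ z : V, w = e + (N ^ i) z := by
    intro i
    induction i with
    | zero => intro w; exact ⟨0, E.zero_mem, w, by rw [zero_add, pow_zero]; rfl⟩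
    | succ i ih =>
      intro w
      obtain ⟨e, he, z, hz⟩ := ih w
      obtain ⟨e', he', _, ⟨z', rfl⟩, hz'⟩ := Submodule.mem_sup.1 (show z ∈ E ⊔ LinearMap.range N by
        rw [hsup]; exact Submodule.mem_top)
      have hNi : ∀ j : ℕ, (N ^ j) e' ∈ E := by
        intro j
        induction j with
        | zero => exact he'
        | succ j ih => rw [pow_succ', Module.End.mul_apply]; exact hNE _ ih
      refine ⟨e + (N ^ i) e', E.add_mem he (hNi i), z', ?_⟩
      rw [hz, ← hz', map_add, ← add_assoc, pow_succ, Module.End.mul_apply]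
  apply LinearMap.ext
  intro w
  obtain ⟨e, he, z, hz⟩ := key n w
  rw [hN, LinearMap.zero_apply, add_zero] at hz
  rw [hz]
  exact (hE e).1 he

end lin

section group

variable {F : Type u} {V : Type v} [Field F] [AddCommGroup V] [Module F V] [FiniteDimensional F V]

/-- **The centralizer of a regular unipotent element modulo the centre.** -/
theorem reg_card {H : Type*} [Group H] [Finite H] [Finite V] {p : ℕ} (hp : p.Prime) [CharP F p] [Nontrivial V]
    (ρ : H →* Module.End F V) (hρ : Function.Injective ρ)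
    (hZ : ∀ z ∈ Subgroup.center H, ∃ l : F, ρ z = algebraMap F (Module.End F V) l) (u : H) {n : ℕ}
    (hN : (ρ u - 1) ^ n = 0) (h1 : finrank F (LinearMap.ker (ρ u - 1)) = 1) :
    ∃ k, Nat.card (Subgroup.centralizer ({(QuotientGroup.mk u : H ⧸ Subgroup.center H)} :
      Set (H ⧸ Subgroup.center H))) = p ^ k ∧ p ^ k ≤ Nat.card V := by
  have := Fact.mk hp
  set N := ρ u - 1 with hNd
  have hu : ρ u = 1 + N := by rw [hNd]; abel
  -- elements commuting modulo the centre commute
  have hcomm : ∀ c : H, (QuotientGroup.mk c : H ⧸ Subgroup.center H) ∈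
      Subgroup.centralizer ({(QuotientGroup.mk u : H ⧸ Subgroup.center H)} : Set (H ⧸ Subgroup.center H)) →
      Commute (ρ c) N := by
    intro c hc
    rw [Subgroup.mem_centralizer_singleton_iff] at hc
    have hz : c * u * c⁻¹ * u⁻¹ ∈ Subgroup.center H := by
      rw [← QuotientGroup.eq_one_iff]
      show (QuotientGroup.mk c * QuotientGroup.mk u * (QuotientGroup.mk c)⁻¹ * (QuotientGroup.mk u)⁻¹ :
        H ⧸ Subgroup.center H) = 1
      rw [hc]
      group
    set z := c * u * c⁻¹ * u⁻¹ with hzd
    obtain ⟨l, hl⟩ := hZ z hz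
    -- `l = 1`
    have e1 : ρ c * ρ u = l • (ρ u * ρ c) := by
      have : c * u = z * (u * c) := by rw [hzd]; group
      rw [← map_mul, this, map_mul, hl, ← Algebra.smul_def, map_mul]
    have hcinj : Function.Injective (ρ c) := by
      intro a b hab
      have e2 : ρ c⁻¹ * ρ c = 1 := by rw [← map_mul, inv_mul_cancel, map_one]
      have e3 : ∀ v, ρ c⁻¹ (ρ c v) = v := fun v => by rw [← Module.End.mul_apply, e2]; rfl
      rw [← e3 a, hab, e3 b]
    have hcsurj : Function.Surjective (ρ c) := LinearMap.surjective_of_injective hcinj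
    have hl1 : l = 1 := by
      by_contra hne
      -- take a vector of the kernel of `N`
      obtain ⟨e, he⟩ : ∃ e : LinearMap.ker N, e ≠ 0 := by
        have : Nontrivial (LinearMap.ker N) := Module.nontrivial_of_finrank_pos (R := F) (by rw [h1]; norm_num)
        exact exists_ne 0
      obtain ⟨w, hw⟩ : ∃ w, ρ c w = ρ c e ∧ w = (e : V) := ⟨e, rfl, rfl⟩
      have hNe : N (e : V) = 0 := LinearMap.mem_ker.1 e.2
      have e2 := LinearMap.congr_fun e1 (e : V)
      rw [Module.End.mul_apply, LinearMap.smul_apply, Module.End.mul_apply, hu, LinearMap.add_apply,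
        Module.End.one_apply, hNe, add_zero, LinearMap.add_apply, Module.End.one_apply, smul_add] at e2
      -- `N (c e) = m (c e)`, `m = (1 - l) / l ≠ 0`
      set w := ρ c (e : V) with hwd
      have hw0 : w ≠ 0 := by
        intro h0
        apply he
        apply Subtype.ext
        apply hcinj
        rw [← hwd, h0]
        simp
      have hl0 : l ≠ 0 := by
        rintro rfl
        rw [zero_smul, zero_smul, add_zero] at e2
        exact hw0 e2
      have e3 : N w = (l⁻¹ * (1 - l)) • w := by
        have e4 : l • N w = (1 - l) • w := by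
          rw [sub_smul, one_smul]
          nth_rw 2 [e2]
          abel
        rw [mul_smul, ← e4, smul_smul, inv_mul_cancel₀ hl0, one_smul]
      have e5 : ∀ i : ℕ, (N ^ i) w = (l⁻¹ * (1 - l)) ^ i • w := by
        intro i
        induction i with
        | zero => simp
        | succ i ih => rw [pow_succ, Module.End.mul_apply, e3, map_smul, ih, smul_smul, ← pow_succ']
      have e6 := e5 n
      rw [hN, LinearMap.zero_apply] at e6
      have e7 : (l⁻¹ * (1 - l)) ^ n = 0 := (smul_eq_zero.1 e6.symm).resolve_right hw0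
      have hn0 : n ≠ 0 := by
        rintro rfl
        rw [pow_zero] at e7
        exact one_ne_zero e7
      have e8 : l⁻¹ * (1 - l) = 0 := (pow_eq_zero_iff hn0).1 e7
      rcases mul_eq_zero.1 e8 with h | h
      · exact inv_ne_zero hl0 h
      · exact hne (sub_eq_zero.1 h).symm
    rw [hl1, one_smul] at e1
    rw [hNd]
    exact (show Commute (ρ c) (ρ u) from e1).sub_right (Commute.one_right _)
  -- scalars are central
  have hscal : ∀ c : H, (∃ l : F, ρ c = algebraMap F (Module.End F V) l) → c ∈ Subgroup.center H := by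
    rintro c ⟨l, hl⟩
    rw [Subgroup.mem_center_iff]
    intro g
    apply hρ
    rw [map_mul, map_mul, hl]
    exact (Algebra.commutes l (ρ g)).symm
  have hpg : IsPGroup p (Subgroup.centralizer ({(QuotientGroup.mk u : H ⧸ Subgroup.center H)} :
      Set (H ⧸ Subgroup.center H))) := by
    rintro ⟨c', hc'⟩
    obtain ⟨c, rfl⟩ := QuotientGroup.mk_surjective c'
    obtain ⟨l, hl⟩ := exists_scalar_add hN h1 (hcomm c hc')
    have hnp : n ≤ p ^ n := (Nat.lt_pow_self hp.one_lt).le
    refine ⟨n, Subtype.ext ?_⟩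
    show (QuotientGroup.mk c : H ⧸ Subgroup.center H) ^ p ^ n = 1
    rw [← QuotientGroup.mk_pow, QuotientGroup.eq_one_iff]
    apply hscal
    refine ⟨l ^ p ^ n, ?_⟩
    have h2 : (ρ c - algebraMap F (Module.End F V) l) ^ p ^ n = 0 := by
      rw [← Nat.sub_add_cancel hnp, pow_add, hl, mul_zero]
    haveI : CharP (Module.End F V) p := charP_of_injective_algebraMap (algebraMap F (Module.End F V)).injective p
    rw [sub_pow_char_pow_of_commute (p := p) n (Algebra.commute_algebraMap_right l (ρ c))] at h2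
    rw [map_pow, map_pow]
    exact sub_eq_zero.1 h2
  obtain ⟨k, hk⟩ := IsPGroup.iff_card.1 hpg
  refine ⟨k, hk, ?_⟩
  rw [← hk]
  obtain ⟨v, hv⟩ := exists_cyclic hN h1
  apply Nat.card_le_card_of_injective (fun c : Subgroup.centralizer ({(QuotientGroup.mk u : H ⧸ Subgroup.center H)} :
    Set (H ⧸ Subgroup.center H)) => ρ (Quotient.out (c : H ⧸ Subgroup.center H)) v)
  intro a b hab
  have ha : (QuotientGroup.mk (Quotient.out (a : H ⧸ Subgroup.center H)) : H ⧸ Subgroup.center H) = a :=
    QuotientGroup.out_eq' _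
  have hb : (QuotientGroup.mk (Quotient.out (b : H ⧸ Subgroup.center H)) : H ⧸ Subgroup.center H) = b :=
    QuotientGroup.out_eq' _
  have h2 := hv _ _ (hcomm _ (ha.symm ▸ a.2)) (hcomm _ (hb.symm ▸ b.2)) hab
  apply Subtype.ext
  rw [← ha, ← hb, hρ h2]

end group

/-! ### `PSL_n` -/

section psl

variable {F : Type u} [Field F] [Fintype F] {p f n : ℕ}

/-- the shift matrix -/
def shift (F : Type u) [Field F] (n : ℕ) : Matrix (Fin n) (Fin n) F :=
  Matrix.of fun i j => if (j : ℕ) = i + 1 then 1 else 0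

omit [Fintype F] in
theorem shift_apply (i j : Fin n) : shift F n i j = if (j : ℕ) = i + 1 then 1 else 0 := rfl

omit [Fintype F] in
theorem shift_mulVec (v : Fin n → F) (i : Fin n) :
    (shift F n *ᵥ v) i = if h : (i : ℕ) + 1 < n then v ⟨i + 1, h⟩ else 0 := by
  rw [Matrix.mulVec, dotProduct]
  split_ifs with h
  · rw [Finset.sum_eq_single ⟨i + 1, h⟩]
    · rw [shift_apply]; simp
    · intro j _ hj
      rw [shift_apply, if_neg (fun h' => hj (Fin.ext h')), zero_mul]
    · intro h'; exact absurd (Finset.mem_univ _) h'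
  · apply Finset.sum_eq_zero
    intro j _
    rw [shift_apply, if_neg (by have := j.2; omega), zero_mul]

omit [Fintype F] in
theorem det_one_add_shift : (1 + shift F n).det = 1 := by
  rw [Matrix.det_of_isUpperTriangular]
  · apply Finset.prod_eq_one
    intro i _
    rw [Matrix.add_apply, Matrix.one_apply_eq, shift_apply, if_neg (by omega), add_zero]
  · intro i j hij
    have hij' : (j : ℕ) < i := hij
    rw [Matrix.add_apply, Matrix.one_apply_ne (by rintro rfl; omega), shift_apply, if_neg (by omega), add_zero]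

omit [Fintype F] in
theorem shift_app (v : Fin n → F) (i : Fin n) : (Matrix.toLinAlgEquiv' (shift F n)) v i =
    if h : (i : ℕ) + 1 < n then v ⟨i + 1, h⟩ else 0 := by
  rw [Matrix.toLinAlgEquiv'_apply, shift_mulVec]

omit [Fintype F] in
theorem shift_pow_app (k : ℕ) : ∀ (v : Fin n → F) (i : Fin n), ((Matrix.toLinAlgEquiv' (shift F n)) ^ k) v i =
    if h : (i : ℕ) + k < n then v ⟨i + k, h⟩ else 0 := by
  induction k with
  | zero => intro v i; rw [pow_zero, dif_pos (by simp)]; rfl
  | succ k ih =>
    intro v i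
    rw [pow_succ, Module.End.mul_apply, ih]
    split_ifs with h h' h'
    · rw [shift_app, dif_pos (by show (i : ℕ) + k + 1 < n; omega)]
      congr 1
    · rw [shift_app, dif_neg (by show ¬ (i : ℕ) + k + 1 < n; omega)]
    · omega
    · rfl

omit [Fintype F] in
theorem shift_pow : (Matrix.toLinAlgEquiv' (shift F n)) ^ n = 0 := by
  apply LinearMap.ext
  intro v
  funext i
  rw [shift_pow_app, dif_neg (by omega)]
  rfl

omit [Fintype F] in
theorem finrank_ker_shift (hn : 1 ≤ n) : finrank F (LinearMap.ker (Matrix.toLinAlgEquiv' (shift F n))) = 1 := by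
  let e : Fin n → F := Pi.single ⟨0, by omega⟩ 1
  have he : e ∈ LinearMap.ker (Matrix.toLinAlgEquiv' (shift F n)) := by
    rw [LinearMap.mem_ker]
    funext i
    rw [shift_app]
    split_ifs
    · exact Pi.single_eq_of_ne (fun h => by simpa using congrArg Fin.val h) _
    · rfl
  have he0 : (⟨e, he⟩ : LinearMap.ker (Matrix.toLinAlgEquiv' (shift F n))) ≠ 0 := by
    intro h
    have h2 := congrFun (congrArg Subtype.val h) ⟨0, by omega⟩
    have h3 : e ⟨0, by omega⟩ = 1 := Pi.single_eq_same _ _
    rw [show (((⟨e, he⟩ : LinearMap.ker (Matrix.toLinAlgEquiv' (shift F n))) : Fin n → F)) = e from rfl, h3] at h2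
    exact one_ne_zero h2
  rw [finrank_eq_one_iff_of_nonzero' _ he0]
  rintro ⟨w, hw⟩
  refine ⟨w ⟨0, by omega⟩, Subtype.ext ?_⟩
  funext i
  show w ⟨0, by omega⟩ * e i = w i
  by_cases hi : (i : ℕ) = 0
  · have : i = ⟨0, by omega⟩ := Fin.ext hi
    rw [this]
    show _ * (Pi.single (⟨0, by omega⟩ : Fin n) (1 : F) : Fin n → F) _ = _
    rw [Pi.single_eq_same, mul_one]
  · have h2 : e i = 0 := Pi.single_eq_of_ne (fun h => hi (by rw [h])) _
    rw [h2, mul_zero]
    have h3 := congrFun (LinearMap.mem_ker.1 hw) ⟨(i : ℕ) - 1, by omega⟩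
    rw [shift_app, dif_pos (by show (i : ℕ) - 1 + 1 < n; omega)] at h3
    rw [Pi.zero_apply] at h3
    rw [← h3]
    congr 1
    apply Fin.ext
    show (i : ℕ) - 1 + 1 = (i : ℕ)
    omega

/-- the regular unipotent element -/
noncomputable def regU (F : Type u) [Field F] (n : ℕ) : SpecialLinearGroup (Fin n) F := ⟨1 + shift F n, det_one_add_shift⟩

omit [Fintype F] in
theorem act_regU : act (regU F n) - 1 = Matrix.toLinAlgEquiv' (shift F n) := by
  rw [act_apply]
  show Matrix.toLinAlgEquiv' (1 + shift F n) - 1 = _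
  rw [map_add, map_one, add_sub_cancel_left]

/-- **REG for `PSL_n`.** -/
theorem reg_psl (hp : p.Prime) (hf : 1 ≤ f) (hF : Fintype.card F = p ^ f) (hn : 1 ≤ n) :
    ∃ k, p ^ k ∈ Co (ProjectiveSpecialLinearGroup (Fin n) F) ∧ p ^ k ≤ (p ^ f) ^ n := by
  have := Fact.mk hp
  have hchar : CharP F p := by
    obtain ⟨p', hp'⟩ := CharP.exists F
    obtain ⟨j, hpr, hj⟩ := FiniteField.card F p'
    rw [hF] at hj
    have h1 : p ∣ p' ^ (j : ℕ) := hj ▸ dvd_pow_self p (by omega)
    have h2 := (Nat.prime_dvd_prime_iff_eq hp hpr).1 (hp.dvd_of_dvd_pow h1)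
    rw [h2]; exact hp'
  have hne : Nonempty (Fin n) := ⟨⟨0, by omega⟩⟩
  have : Nontrivial (Fin n → F) := Function.nontrivial
  obtain ⟨k, hk1, hk2⟩ := reg_card hp act act_injective (fun z hz => by
    obtain ⟨c, hc⟩ := act_center hz
    exact ⟨c, by rw [hc, Algebra.algebraMap_eq_smul_one]⟩) (regU F n) (n := n)
    (by rw [act_regU]; exact shift_pow) (by rw [act_regU]; exact finrank_ker_shift hn)
  have hV : Nat.card (Fin n → F) = (p ^ f) ^ n := by
    rw [Nat.card_fun, Nat.card_eq_fintype_card, hF, Nat.card_eq_fintype_card, Fintype.card_fin]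
  rw [hV] at hk2
  exact ⟨k, hk1 ▸ mem_co (G := ProjectiveSpecialLinearGroup (Fin n) F) (pr F n (regU F n)), hk2⟩

end psl

/-! ### `PSU_n` -/

section psu

variable {F : Type u} [Field F] [Fintype F] {p f n : ℕ}

/-- the action of `SU_n` -/
noncomputable def actU (n : ℕ) (F : Type u) [Field F] (q : ℕ) : SU n F q →* Module.End F (Fin n → F) :=
  act.comp (SU n F q).subtype

omit [Fintype F] in
theorem actU_injective (q : ℕ) : Function.Injective (actU n F q) := by
  intro a b h
  exact Subtype.ext (act_injective h)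

theorem actU_center {q : ℕ} (hF : Fintype.card F = q ^ 2) (hn : 3 ≤ n) {z : SU n F q}
    (hz : z ∈ Subgroup.center (SU n F q)) : ∃ l : F, actU n F q z = algebraMap F (Module.End F (Fin n → F)) l := by
  obtain ⟨c, h1, h2, h3⟩ := (Cfsg.Agent.LieClassical.SUBasic.mem_center_SU_iff hF hn z).1 hz
  refine ⟨c, ?_⟩
  have h4 : ((z : SpecialLinearGroup (Fin n) F) : Matrix (Fin n) (Fin n) F) = c • (1 : Matrix (Fin n) (Fin n) F) := by
    rw [h3, Matrix.smul_one_eq_diagonal]
    rfl
  show act (z : SpecialLinearGroup (Fin n) F) = _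
  rw [act_apply, h4, map_smul, map_one, Algebra.algebraMap_eq_smul_one]

/-- **REG for `PSU_n`.** -/
theorem reg_psu (hp : p.Prime) (hf : 1 ≤ f) (hF : Fintype.card F = (p ^ f) ^ 2) (hn : 3 ≤ n) :
    ∃ k, p ^ k ∈ Co (PSU n F (p ^ f)) ∧ p ^ k ≤ ((p ^ f) ^ 2) ^ n := by
  have := Fact.mk hp
  have hchar : CharP F p := by
    obtain ⟨p', hp'⟩ := CharP.exists F
    obtain ⟨j, hpr, hj⟩ := FiniteField.card F p'
    rw [hF, ← pow_mul] at hj
    have h1 : p ∣ p' ^ (j : ℕ) := hj ▸ dvd_pow_self p (by omega)
    have h2 := (Nat.prime_dvd_prime_iff_eq hp hpr).1 (hp.dvd_of_dvd_pow h1)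
    rw [h2]; exact hp'
  have hne : Nonempty (Fin n) := ⟨⟨0, by omega⟩⟩
  have : Nontrivial (Fin n → F) := Function.nontrivial
  have hcard := S2643.result hF (n := n) (by omega)
  have hpos : 0 < Nat.gcd n (p ^ f + 1) := Nat.gcd_pos_of_pos_left _ (by omega)
  rw [← hcard] at hpos
  obtain ⟨⟨C, u, -, hu1, hu2⟩⟩ := (Nat.card_pos_iff.1 hpos).1
  have hN : actU n F (p ^ f) u - 1 = Matrix.toLinAlgEquiv' (((u : GL (Fin n) F) : Matrix (Fin n) (Fin n) F) - 1) := by
    rw [map_sub, map_one]
    rfl
  obtain ⟨k, hk1, hk2⟩ := reg_card hp (actU n F (p ^ f)) (actU_injective _) (fun z hz => actU_center hF hn hz) u (n := n)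
    (by rw [hN, ← map_pow, hu1, map_zero]) (by
      rw [hN]
      have h1 := LinearMap.finrank_range_add_finrank_ker
        (Matrix.toLinAlgEquiv' (((u : GL (Fin n) F) : Matrix (Fin n) (Fin n) F) - 1))
      have h2 : finrank F (LinearMap.range (Matrix.toLinAlgEquiv' (((u : GL (Fin n) F) : Matrix (Fin n) (Fin n) F) - 1))) =
          n - 1 := hu2
      rw [h2, finrank_fin_fun] at h1
      omega)
  have hV : Nat.card (Fin n → F) = ((p ^ f) ^ 2) ^ n := by
    rw [Nat.card_fun, Nat.card_eq_fintype_card, hF, Nat.card_eq_fintype_card, Fintype.card_fin]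
  rw [hV] at hk2
  exact ⟨k, hk1 ▸ mem_co (G := PSU n F (p ^ f)) (QuotientGroup.mk u), hk2⟩

end psu

end Cfsg.Agent.H277.CS
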