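import Mathlib
import Cfsg.Agent.H277.CS.PslSub

/-!
# S3677: elements of `PSL_n(q)` commuting with an element of order `r`, `ord_r(q) = n`: their centralizers are small
-/

set_option autoImplicit false
set_option linter.style.haveILetI false

namespace Cfsg.Agent.H277.CS

open Matrix Module Cfsg.Agent.H363.PslSpec Cfsg.Agent.H363.Frat

universe u v

section

variable {F : Type u} [Field F] [Finite F] {n : ℕ}

/-- **Centralizer orders in `PSL_n` and in `SL_n`.** -/
theorem card_cent_psl (hn : 1 ≤ n) (g : SpecialLinearGroup (Fin n) F) :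
    ∃ e, e ∣ Nat.gcd n (Nat.card F - 1) ∧
      Nat.card (Subgroup.centralizer ({pr F n g} : Set (ProjectiveSpecialLinearGroup (Fin n) F))) *
        Nat.gcd n (Nat.card F - 1) = Nat.card (Subgroup.centralizer ({g} : Set (SpecialLinearGroup (Fin n) F))) * e := by
  have hfin : Finite (SpecialLinearGroup (Fin n) F) := inferInstance
  have hfin' : Finite (ProjectiveSpecialLinearGroup (Fin n) F) := inferInstance
  set D := (Subgroup.centralizer ({pr F n g} : Set (ProjectiveSpecialLinearGroup (Fin n) F))).comap (pr F n) with hD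
  have hmem : ∀ c : SpecialLinearGroup (Fin n) F, c ∈ D ↔
      c * g * c⁻¹ * g⁻¹ ∈ Subgroup.center (SpecialLinearGroup (Fin n) F) := by
    intro c
    rw [hD, Subgroup.mem_comap, Subgroup.mem_centralizer_singleton_iff, ← pr_eq_one, map_mul, map_mul, map_mul,
      map_inv, map_inv, mul_inv_eq_one, mul_inv_eq_iff_eq_mul]
  let δ : D →* Subgroup.center (SpecialLinearGroup (Fin n) F) :=
    { toFun := fun c => ⟨(c : SpecialLinearGroup (Fin n) F) * g * (c : SpecialLinearGroup (Fin n) F)⁻¹ * g⁻¹,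
        (hmem c).1 c.2⟩
      map_one' := Subtype.ext (by simp)
      map_mul' := by
        rintro ⟨a, ha⟩ ⟨b, hb⟩
        apply Subtype.ext
        show a * b * g * (a * b)⁻¹ * g⁻¹ = (a * g * a⁻¹ * g⁻¹) * (b * g * b⁻¹ * g⁻¹)
        have h1 := Subgroup.mem_center_iff.1 ((hmem b).1 hb) (a * g * a⁻¹ * g⁻¹)
        have h2 := Subgroup.mem_center_iff.1 ((hmem b).1 hb) a
        calc a * b * g * (a * b)⁻¹ * g⁻¹ = (a * (b * g * b⁻¹ * g⁻¹)) * g * a⁻¹ * g⁻¹ := by group
          _ = ((b * g * b⁻¹ * g⁻¹) * a) * g * a⁻¹ * g⁻¹ := by rw [h2]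
          _ = (b * g * b⁻¹ * g⁻¹) * (a * g * a⁻¹ * g⁻¹) := by group
          _ = (a * g * a⁻¹ * g⁻¹) * (b * g * b⁻¹ * g⁻¹) := h1.symm }
  have hker : Nat.card δ.ker = Nat.card (Subgroup.centralizer ({g} : Set (SpecialLinearGroup (Fin n) F))) := by
    let φ : δ.ker → Subgroup.centralizer ({g} : Set (SpecialLinearGroup (Fin n) F)) := fun c =>
      ⟨((c : D) : SpecialLinearGroup (Fin n) F), by
        rw [Subgroup.mem_centralizer_singleton_iff]
        have h1 : ((δ (c : D)) : SpecialLinearGroup (Fin n) F) = 1 := congrArg Subtype.val (MonoidHom.mem_ker.1 c.2)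
        have h2 : ((c : D) : SpecialLinearGroup (Fin n) F) * g * ((c : D) : SpecialLinearGroup (Fin n) F)⁻¹ * g⁻¹ = 1 := h1
        rw [mul_inv_eq_one, mul_inv_eq_iff_eq_mul] at h2
        exact h2⟩
    apply Nat.card_eq_of_bijective φ
    constructor
    · intro a b hab
      have hab' := congrArg Subtype.val hab
      exact Subtype.ext (Subtype.ext hab')
    · rintro ⟨c, hc⟩
      rw [Subgroup.mem_centralizer_singleton_iff] at hc
      have h1 : c * g * c⁻¹ * g⁻¹ = 1 := by rw [hc]; group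
      have h2 : c ∈ D := by rw [hmem, h1]; exact Subgroup.one_mem _
      exact ⟨⟨⟨c, h2⟩, MonoidHom.mem_ker.2 (Subtype.ext h1)⟩, rfl⟩
  refine ⟨Nat.card δ.range, ?_, ?_⟩
  · rw [← card_center_sl (F := F) hn]
    exact Subgroup.card_subgroup_dvd_card _
  · have e0 := δ.ker.card_mul_index
    rw [Subgroup.index_ker, hker] at e0
    rw [e0]
    have hidx := Subgroup.index_comap_of_surjective
      (Subgroup.centralizer ({pr F n g} : Set (ProjectiveSpecialLinearGroup (Fin n) F))) (pr_surjective (F := F) (n := n))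
    rw [← hD] at hidx
    have e1 := D.card_mul_index
    have e2 := (Subgroup.centralizer ({pr F n g} : Set (ProjectiveSpecialLinearGroup (Fin n) F))).card_mul_index
    have e3 := Subgroup.card_eq_card_quotient_mul_card_subgroup (Subgroup.center (SpecialLinearGroup (Fin n) F))
    have e4 : Nat.card (SpecialLinearGroup (Fin n) F ⧸ Subgroup.center (SpecialLinearGroup (Fin n) F)) =
      Nat.card (ProjectiveSpecialLinearGroup (Fin n) F) := rfl
    rw [card_center_sl hn, e4, ← e1, ← e2, ← hidx] at e3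
    have h0 : 0 < D.index := Nat.pos_of_ne_zero Subgroup.index_ne_zero_of_finite
    apply Nat.eq_of_mul_eq_mul_right h0
    rw [e3]
    ring

/-- **The centralizer in `SL_n`.** -/
theorem exists_dvd_top {s : ℕ} (hs : s.Prime) (hn : 2 ≤ n)
    (hsn : s ∣ Nat.card F ^ n - 1) (hsd : ∀ d, 0 < d → d < n → ¬ s ∣ Nat.card F ^ d - 1)
    {g : SpecialLinearGroup (Fin n) F} (hx : pr F n g ≠ 1)
    (hdx : s ∣ Nat.card (Subgroup.centralizer ({pr F n g} : Set (ProjectiveSpecialLinearGroup (Fin n) F)))) :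
    ∃ k m : ℕ, k * m = n ∧ 2 ≤ k ∧
      Nat.card (Subgroup.centralizer ({g} : Set (SpecialLinearGroup (Fin n) F))) ∣
        ∏ i : Fin m, ((Nat.card F ^ k) ^ m - (Nat.card F ^ k) ^ (i : ℕ)) := by
  have hq1 : 1 < Nat.card F := Finite.one_lt_card
  have hfin : Finite (SpecialLinearGroup (Fin n) F) := inferInstance
  have hfin' : Finite (ProjectiveSpecialLinearGroup (Fin n) F) := inferInstance
  have := Fact.mk hs
  have hsc : ¬ s ∣ Nat.gcd n (Nat.card F - 1) := by
    intro h1
    have h2 : s ∣ Nat.card F - 1 := h1.trans (Nat.gcd_dvd_right _ _)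
    apply hsd 1 one_pos (by omega)
    rw [pow_one]; exact h2
  obtain ⟨⟨y0, hy0⟩, hy0s⟩ := exists_prime_orderOf_dvd_card' s hdx
  rw [Subgroup.orderOf_mk] at hy0s
  obtain ⟨y1, rfl⟩ := pr_surjective y0
  obtain ⟨k', hk1, hk2⟩ := lift_prime_pow (g := y1) (j := 0) hs hsc (by
    rw [zero_add, pow_one, hy0s])
  rw [zero_add, pow_one] at hk1
  rw [pow_zero, pow_one] at hk2
  set y := y1 ^ k' with hy
  have hcy : Commute (pr F n g) (pr F n y) := by
    rw [hy, map_pow]
    exact (show Commute (pr F n g) (pr F n y1) from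
      (Subgroup.mem_centralizer_singleton_iff.1 hy0).symm).pow_right k'
  have hcm : Commute g y := by
    have hz : g * y * g⁻¹ * y⁻¹ ∈ Subgroup.center (SpecialLinearGroup (Fin n) F) := by
      rw [← pr_eq_one, map_mul, map_mul, map_mul, map_inv, map_inv, hcy.eq, mul_inv_cancel_right, mul_inv_cancel]
    set z := g * y * g⁻¹ * y⁻¹ with hzd
    have h1 : g * y * g⁻¹ = z * y := by rw [hzd]; group
    have h2 : (g * y * g⁻¹) ^ s = 1 := by
      rw [conj_pow, hk1, mul_one, mul_inv_cancel]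
    rw [h1, (show Commute z y from (Subgroup.mem_center_iff.1 hz y).symm).mul_pow, hk1, mul_one] at h2
    have h3 := center_pow z hz
    have h4 : orderOf z ∣ Nat.gcd s (Nat.gcd n (Nat.card F - 1)) :=
      Nat.dvd_gcd (orderOf_dvd_of_pow_eq_one h2) (orderOf_dvd_of_pow_eq_one h3)
    rw [(Nat.Prime.coprime_iff_not_dvd hs).2 hsc, Nat.dvd_one, orderOf_eq_one_iff] at h4
    rw [h4, one_mul, mul_inv_eq_iff_eq_mul] at h1
    exact h1
  have hfr : finrank F (Fin n → F) = n := finrank_fin_fun F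
  have h1 : act y ^ s = 1 := by rw [← map_pow, hk1, map_one]
  have h2 : act y ≠ 1 := by
    intro h
    exact hk2 (act_injective (by rw [h, map_one]))
  obtain ⟨K, i1, i2, i3, f, hf, hK⟩ := H363.CentField.exists_field hs h1 h2 (by rw [hfr]; exact hsn)
    (by rw [hfr]; exact hsd)
  obtain ⟨a, ha⟩ := (hK (act g)).1 (hcm.map act)
  have hfK : FiniteDimensional F K := Module.Finite.of_finite
  set L := IntermediateField.adjoin F {a} with hL
  have haL : a ∈ L := IntermediateField.mem_adjoin_simple_self F a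
  letI : Module L (Fin n → F) := Module.compHom (Fin n → F) ((f : K →+* Module.End F (Fin n → F)).comp (algebraMap L K))
  have hsm : ∀ (c : L) (w : Fin n → F), c • w = f (c : K) w := fun _ _ => rfl
  haveI : IsScalarTower F L (Fin n → F) := ⟨fun c k v => by
    rw [hsm, hsm]
    have : ((c • k : L) : K) = c • (k : K) := rfl
    rw [this, map_smul, LinearMap.smul_apply]⟩
  have : FiniteDimensional F L := inferInstance
  have : Finite L := inferInstance
  have : FiniteDimensional L (Fin n → F) := Module.Finite.of_finite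
  have hmul : finrank F L * finrank L (Fin n → F) = finrank F (Fin n → F) :=
    Module.finrank_mul_finrank F L (Fin n → F)
  rw [hfr] at hmul
  have hcardL : Nat.card L = Nat.card F ^ finrank F L := Module.natCard_eq_pow_finrank
  have hk2 : 2 ≤ finrank F L := by
    have h3 : 0 < finrank F L := finrank_pos
    by_contra hcon
    have h4 : finrank F L = 1 := by omega
    rw [hL, IntermediateField.finrank_adjoin_simple_eq_one_iff] at h4
    obtain ⟨l, hl⟩ := IntermediateField.mem_bot.1 h4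
    apply hx
    rw [pr_eq_one, Subgroup.mem_center_iff]
    intro c
    apply act_injective
    have hg : act g = l • (1 : Module.End F (Fin n → F)) := by
      rw [← ha, ← hl, AlgHom.commutes]
      rfl
    rw [map_mul, map_mul, hg, mul_smul_comm, smul_mul_assoc, one_mul, mul_one]
  refine ⟨finrank F L, finrank L (Fin n → F), hmul, hk2, ?_⟩
  rw [← hcardL, ← card_units_end]
  have hlin : ∀ b : Module.End F (Fin n → F), Commute b (f a) → ∀ (c : L) (w : Fin n → F), b (c • w) = c • b w := by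
    intro b hb
    have key : ∀ x : K, x ∈ L → Commute b (f x) := by
      intro x hx
      induction hx using IntermediateField.adjoin_induction with
      | mem x hx => rw [Set.mem_singleton_iff] at hx; rw [hx]; exact hb
      | algebraMap x => rw [AlgHom.commutes]; exact (Algebra.commutes x b).symm
      | add x y _ _ h1 h2 => rw [map_add]; exact h1.add_right h2
      | inv x _ h1 =>
        by_cases hx0 : x = 0
        · rw [hx0, _root_.inv_zero, map_zero]; exact Commute.zero_right b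
        · have e1 : f x * f x⁻¹ = 1 := by rw [← map_mul, mul_inv_cancel₀ hx0, map_one]
          have e2 : f x⁻¹ * f x = 1 := by rw [← map_mul, inv_mul_cancel₀ hx0, map_one]
          show b * f x⁻¹ = f x⁻¹ * b
          calc b * f x⁻¹ = (f x⁻¹ * f x) * b * f x⁻¹ := by rw [e2, one_mul]
            _ = f x⁻¹ * (f x * b) * f x⁻¹ := by simp only [mul_assoc]
            _ = f x⁻¹ * (b * f x) * f x⁻¹ := by rw [h1.eq]
            _ = f x⁻¹ * b * (f x * f x⁻¹) := by simp only [mul_assoc]
            _ = f x⁻¹ * b := by rw [e1, mul_one]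
      | mul x y _ _ h1 h2 => rw [map_mul]; exact h1.mul_right h2
    intro c w
    exact LinearMap.congr_fun (key c c.2) w
  let ψ : Subgroup.centralizer ({g} : Set (SpecialLinearGroup (Fin n) F)) →* Module.End L (Fin n → F) :=
    { toFun := fun b =>
        { toFun := act (b : SpecialLinearGroup (Fin n) F)
          map_add' := map_add _
          map_smul' := hlin _ (by
            rw [ha]
            exact (show Commute (b : SpecialLinearGroup (Fin n) F) g from
              (Subgroup.mem_centralizer_singleton_iff.1 b.2)).map act) }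
      map_one' := by
        apply LinearMap.ext
        intro v
        show act ((1 : Subgroup.centralizer ({g} : Set (SpecialLinearGroup (Fin n) F))) :
          SpecialLinearGroup (Fin n) F) v = v
        rw [Subgroup.coe_one, map_one]
        rfl
      map_mul' := by
        intro b c
        apply LinearMap.ext
        intro v
        show act ((b * c : Subgroup.centralizer ({g} : Set (SpecialLinearGroup (Fin n) F))) :
          SpecialLinearGroup (Fin n) F) v = act (b : SpecialLinearGroup (Fin n) F) (act (c : SpecialLinearGroup (Fin n) F) v)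
        rw [Subgroup.coe_mul, map_mul]
        rfl }
  apply Subgroup.card_dvd_of_injective ψ.toHomUnits
  intro b c hbc
  have h3 : ψ b = ψ c := congrArg Units.val hbc
  apply Subtype.ext
  apply act_injective
  apply LinearMap.ext
  intro v
  exact LinearMap.congr_fun h3 v

end

/-! ### Numerics -/

theorem two_pow_mul_prod {q : ℕ} (hq : 2 ≤ q) (n : ℕ) :
    (2 ^ n + 1) * q ^ ((n + 1) * (n + 2) / 2 - 1) ≤ 2 ^ (n + 1) * ∏ i ∈ Finset.range n, (q ^ (i + 2) - 1) := by
  induction n with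
  | zero => simp
  | succ n ih =>
    rw [Finset.prod_range_succ]
    have e1 : (n + 1 + 1) * (n + 1 + 2) / 2 - 1 = ((n + 1) * (n + 2) / 2 - 1) + (n + 2) := by
      have h1 : (n + 1 + 1) * (n + 1 + 2) = (n + 1) * (n + 2) + 2 * (n + 2) := by ring
      have h2 : 2 ≤ (n + 1) * (n + 2) := by nlinarith
      rw [h1, Nat.add_mul_div_left _ _ (by norm_num)]
      omega
    rw [e1, pow_add q]
    set A := ∏ i ∈ Finset.range n, (q ^ (i + 2) - 1)
    set T := q ^ ((n + 1) * (n + 2) / 2 - 1)
    have hQ : 2 ^ (n + 2) ≤ q ^ (n + 2) := Nat.pow_le_pow_left hq _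
    obtain ⟨Q, hQe⟩ : ∃ Q, q ^ (n + 2) = Q + 1 := ⟨q ^ (n + 2) - 1, by
      have : 1 ≤ q ^ (n + 2) := Nat.one_le_pow _ _ (by omega)
      omega⟩
    rw [hQe, Nat.add_sub_cancel]
    have h3 : 2 ^ (n + 1) + 2 ≤ Q + 1 := by
      rw [hQe] at hQ
      have : 2 ^ (n + 2) = 2 ^ (n + 1) + 2 ^ (n + 1) := by ring
      have h4 : 2 ≤ 2 ^ (n + 1) := by
        calc 2 = 2 ^ 1 := by norm_num
          _ ≤ 2 ^ (n + 1) := Nat.pow_le_pow_right (by norm_num) (by omega)
      omega
    have h5 : (2 ^ (n + 1) + 1) * (Q + 1) ≤ 2 * (2 ^ n + 1) * Q := by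
      have : 2 * (2 ^ n + 1) = 2 ^ (n + 1) + 2 := by ring
      rw [this]
      nlinarith
    calc (2 ^ (n + 1) + 1) * (T * (Q + 1)) = ((2 ^ (n + 1) + 1) * (Q + 1)) * T := by ring
      _ ≤ (2 * (2 ^ n + 1) * Q) * T := Nat.mul_le_mul_right _ h5
      _ = 2 * Q * ((2 ^ n + 1) * T) := by ring
      _ ≤ 2 * Q * (2 ^ (n + 1) * A) := Nat.mul_le_mul_left _ ih
      _ = 2 ^ (n + 1 + 1) * (A * Q) := by ring

/-- `|PSL_n(q)| ≥ q ^ (n² - 3)` -/
theorem le_card_psl {F : Type*} [Field F] [Fintype F] {q : ℕ} (hF : Fintype.card F = q) {n : ℕ} (hn : 2 ≤ n) :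
    q ^ (n * n - 3) ≤ Nat.card (ProjectiveSpecialLinearGroup (Fin n) F) := by
  have hq : 2 ≤ q := hF ▸ Fintype.one_lt_card
  have hc := card_psl hF hn
  have h1 := two_pow_mul_prod hq (n - 1)
  set S := Nat.card (ProjectiveSpecialLinearGroup (Fin n) F)
  obtain ⟨m, rfl⟩ : ∃ m, n = m + 2 := ⟨n - 2, by omega⟩
  have e1 : m + 2 - 1 = m + 1 := by omega
  rw [e1] at hc h1
  set A := ∏ i ∈ Finset.range (m + 1), (q ^ (i + 2) - 1)
  -- `2 A ≥ q ^ ..`
  have h2 : q ^ ((m + 2) * (m + 3) / 2 - 1) ≤ 2 * A := by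
    have h3 : 2 ^ (m + 1) * q ^ ((m + 2) * (m + 3) / 2 - 1) ≤ 2 ^ (m + 1) * (2 * A) := by
      calc 2 ^ (m + 1) * q ^ ((m + 2) * (m + 3) / 2 - 1)
          ≤ (2 ^ (m + 1) + 1) * q ^ ((m + 2) * (m + 3) / 2 - 1) := Nat.mul_le_mul_right _ (by omega)
        _ ≤ 2 ^ (m + 1 + 1) * A := h1
        _ = 2 ^ (m + 1) * (2 * A) := by ring
    exact Nat.le_of_mul_le_mul_left h3 (by positivity)
  have h4 : q ^ ((m + 2) * (m + 2) - 1) ≤ 2 * (Nat.gcd (m + 2) (q - 1) * S) := by
    have e2 : (m + 2) * (m + 2) - 1 = (m + 2) * (m + 1) / 2 + ((m + 2) * (m + 3) / 2 - 1) := by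
      have a1 : (m + 2) * (m + 1) / 2 * 2 = (m + 2) * (m + 1) :=
        Nat.div_mul_cancel (by rw [mul_comm]; exact (Nat.even_mul_succ_self (m + 1)).two_dvd)
      have a2 : (m + 2) * (m + 3) / 2 * 2 = (m + 2) * (m + 3) :=
        Nat.div_mul_cancel (Nat.even_mul_succ_self (m + 2)).two_dvd
      have a3 : (m + 2) * (m + 1) + (m + 2) * (m + 3) = 2 * ((m + 2) * (m + 2)) := by ring
      have a4 : 2 * 3 ≤ (m + 2) * (m + 3) := Nat.mul_le_mul (by omega) (by omega)
      omega
    rw [hc, e2, pow_add]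
    calc q ^ ((m + 2) * (m + 1) / 2) * q ^ ((m + 2) * (m + 3) / 2 - 1)
        ≤ q ^ ((m + 2) * (m + 1) / 2) * (2 * A) := Nat.mul_le_mul_left _ h2
      _ = 2 * (q ^ ((m + 2) * (m + 1) / 2) * A) := by ring
  have h5 : 2 * Nat.gcd (m + 2) (q - 1) ≤ q ^ 2 := by
    have h6 : Nat.gcd (m + 2) (q - 1) ≤ q - 1 := Nat.gcd_le_right _ (by omega)
    nlinarith [Nat.sub_add_cancel (show 1 ≤ q by omega)]
  have h7 : q ^ 2 * q ^ ((m + 2) * (m + 2) - 3) ≤ q ^ 2 * S := by
    rw [← pow_add]
    have e3 : 2 + ((m + 2) * (m + 2) - 3) = (m + 2) * (m + 2) - 1 := by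
      have : 2 * 2 ≤ (m + 2) * (m + 2) := Nat.mul_le_mul (by omega) (by omega)
      omega
    rw [e3]
    calc q ^ ((m + 2) * (m + 2) - 1) ≤ 2 * (Nat.gcd (m + 2) (q - 1) * S) := h4
      _ = (2 * Nat.gcd (m + 2) (q - 1)) * S := by ring
      _ ≤ q ^ 2 * S := Nat.mul_le_mul_right _ h5
  exact Nat.le_of_mul_le_mul_left h7 (by positivity)

variable {F : Type v} [Field F] [Fintype F] {p f n r : ℕ}

/-- **F1' for `PSL_n`, `r` of order `n`.** -/
theorem size_psl_top (hp : p.Prime) (hf : 1 ≤ f) (hF : Fintype.card F = p ^ f) (hn : 3 ≤ n) (hr : r.Prime)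
    (ho : orderOf (((p ^ f : ℕ)) : ZMod r) = n) (x : Matrix.ProjectiveSpecialLinearGroup (Fin n) F) (hx : x ≠ 1)
    (hrx : r ∣ Nat.card (Subgroup.centralizer ({x} : Set (Matrix.ProjectiveSpecialLinearGroup (Fin n) F)))) :
    Nat.card (Subgroup.centralizer ({x} : Set (Matrix.ProjectiveSpecialLinearGroup (Fin n) F))) *
      p ^ (Nat.card (Subgroup.centralizer ({x} : Set (Matrix.ProjectiveSpecialLinearGroup (Fin n) F)))).factorization p <
      Nat.card (Matrix.ProjectiveSpecialLinearGroup (Fin n) F) := by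
  have := Fact.mk hr
  have hfin : Finite (SpecialLinearGroup (Fin n) F) := inferInstance
  have hfin' : Finite (ProjectiveSpecialLinearGroup (Fin n) F) := inferInstance
  set q := p ^ f with hq
  have hqF : Nat.card F = q := by rw [Nat.card_eq_fintype_card, hF]
  have hq1 : 1 < q := Nat.one_lt_pow (by omega) hp.one_lt
  have hpq : p ∣ q := dvd_pow_self p (by omega)
  have hmem : ∀ d, r ∣ q ^ d - 1 ↔ n ∣ d := by
    intro d
    rw [← ho, orderOf_dvd_iff_pow_eq_one, ← Nat.cast_pow, ← sub_eq_zero, ← ZMod.natCast_eq_zero_iff,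
      Nat.cast_sub (Nat.one_le_pow _ _ (by omega)), Nat.cast_one]
  have hsn : r ∣ Nat.card F ^ n - 1 := by rw [hqF]; exact (hmem _).2 dvd_rfl
  have hsd : ∀ d, 0 < d → d < n → ¬ r ∣ Nat.card F ^ d - 1 := by
    intro d hd0 hd1 h
    rw [hqF, hmem] at h
    exact absurd (Nat.le_of_dvd hd0 h) (by omega)
  obtain ⟨g, rfl⟩ := pr_surjective x
  obtain ⟨k, m, hkm, hk, hdvd⟩ := exists_dvd_top hr (by omega) hsn hsd hx hrx
  obtain ⟨e, hed, hce⟩ := card_cent_psl (F := F) (n := n) (by omega) g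
  rw [hqF] at hdvd hed hce
  set c := Nat.card (Subgroup.centralizer ({pr F n g} : Set (ProjectiveSpecialLinearGroup (Fin n) F))) with hc
  set c' := Nat.card (Subgroup.centralizer ({g} : Set (SpecialLinearGroup (Fin n) F))) with hc'
  set d := Nat.gcd n (q - 1) with hd
  have hc0 : 0 < c := Nat.card_pos
  have hc0' : 0 < c' := Nat.card_pos
  have hd0 : 0 < d := Nat.gcd_pos_of_pos_right _ (by omega)
  have hpd : ¬ p ∣ d := by
    intro h
    have := not_dvd_pow_sub_one (j := 1) hp hq1.le hpq one_pos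
    rw [pow_one] at this
    exact this (h.trans (Nat.gcd_dvd_right _ _))
  have hpe : ¬ p ∣ e := fun h => hpd (h.trans hed)
  have he0 : 0 < e := Nat.pos_of_dvd_of_pos hed hd0
  -- `c ≤ c'`
  have hcc : c ≤ c' := by
    apply Nat.le_of_mul_le_mul_right _ hd0
    rw [hce]
    exact Nat.mul_le_mul_left _ (Nat.le_of_dvd hd0 hed)
  have hfac : c.factorization p = c'.factorization p := by
    have h1 : (c * d).factorization p = (c' * e).factorization p := by rw [hce]
    rw [Nat.factorization_mul hc0.ne' hd0.ne', Nat.factorization_mul hc0'.ne' he0.ne'] at h1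
    simpa [Nat.factorization_eq_zero_of_not_dvd hpd, Nat.factorization_eq_zero_of_not_dvd hpe] using h1
  have hm0 : 0 < m := by
    rcases Nat.eq_zero_or_pos m with h | h
    · rw [h, mul_zero] at hkm; omega
    · exact h
  set Q := q ^ k with hQ
  have hQ1 : 1 < Q := Nat.one_lt_pow (by omega) hq1
  set P := ∏ i : Fin m, (Q ^ m - Q ^ (i : ℕ)) with hP
  have hP0 : 0 < P := by
    apply Finset.prod_pos
    intro i _
    have := Nat.pow_lt_pow_right hQ1 i.2
    omega
  have hcP : c' ≤ P := Nat.le_of_dvd hP0 hdvd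
  -- `P < Q ^ (m * m)`
  have hPQ : P < Q ^ (m * m) := by
    have h1 : Q ^ (m * m) = ∏ _i : Fin m, Q ^ m := by
      rw [Finset.prod_const, Finset.card_univ, Fintype.card_fin, pow_mul]
    rw [h1, hP]
    apply Finset.prod_lt_prod_of_nonempty
    · intro i _
      have := Nat.pow_lt_pow_right hQ1 i.2
      omega
    · intro i _
      have h2 : 0 < Q ^ (i : ℕ) := by positivity
      have := Nat.pow_lt_pow_right hQ1 i.2
      omega
    · exact ⟨⟨0, hm0⟩, Finset.mem_univ _⟩
  have hfP : P.factorization p = f * k * (m * (m - 1) / 2) := by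
    apply fact_of (d := 1) hp (fun h => hp.one_lt.ne' (Nat.dvd_one.1 h))
      (not_dvd_prod_pow (q := Q) (m := m) hp hQ1.le (dvd_pow hpq (by omega)) one_pos)
    rw [mul_one, hP, prod_gl, hQ, hq, ← pow_mul, ← pow_mul, mul_assoc f k]
  have hfc : c.factorization p ≤ f * k * (m * (m - 1) / 2) := by
    rw [hfac, ← hfP]
    exact (Nat.factorization_le_iff_dvd hc0'.ne' hP0.ne').2 hdvd p
  have hpc : p ^ c.factorization p ≤ q ^ (k * (m * (m - 1) / 2)) := by
    calc p ^ c.factorization p ≤ p ^ (f * k * (m * (m - 1) / 2)) := Nat.pow_le_pow_right hp.pos hfc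
      _ = q ^ (k * (m * (m - 1) / 2)) := by rw [hq, ← pow_mul, mul_assoc]
  have hexp : k * (m * m) + k * (m * (m - 1) / 2) ≤ n * n - 3 := by
    have e1 : m * (m - 1) / 2 * 2 = m * (m - 1) := Nat.div_mul_cancel (Nat.even_mul_pred_self m).two_dvd
    have e2 : k * (m * (m - 1) / 2) * 2 = n * (m - 1) := by rw [mul_assoc, e1, ← mul_assoc, hkm]
    have e3 : k * (m * m) = n * m := by rw [← mul_assoc, hkm]
    have h2m : 2 * m ≤ n := hkm ▸ Nat.mul_le_mul_right m hk
    obtain ⟨j, rfl⟩ : ∃ j, m = j + 1 := ⟨m - 1, by omega⟩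
    rw [e3]
    simp only [Nat.add_sub_cancel] at e2 ⊢
    have h4 : 2 * (n * (j + 1)) + n * j + 6 ≤ 2 * (n * n) := by nlinarith
    omega
  calc c * p ^ c.factorization p ≤ P * q ^ (k * (m * (m - 1) / 2)) := Nat.mul_le_mul (hcc.trans hcP) hpc
    _ < Q ^ (m * m) * q ^ (k * (m * (m - 1) / 2)) := Nat.mul_lt_mul_of_pos_right hPQ (by positivity)
    _ = q ^ (k * (m * m) + k * (m * (m - 1) / 2)) := by rw [hQ, ← pow_mul, ← pow_add]
    _ ≤ q ^ (n * n - 3) := Nat.pow_le_pow_right (by omega) hexp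
    _ ≤ _ := le_card_psl hF (by omega)

end Cfsg.Agent.H277.CS
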